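import Cfsg.Agent.Lib.UnipEight.Model
import Cfsg.Agent.Lib.Forms.OmegaOrder
import Cfsg.Agent.Lib.ClassicalSimple.PGOModels

/-!
Membership of the commutator subgroup for the eight-dimensional orthogonal group over the field with three elements.
-/

set_option autoImplicit false
set_option linter.unusedSectionVars false

namespace Cfsg.Agent.UnipEight

open scoped Matrix
open UnipSeven (K3)
open QForm (refl sphereSign)

/-- The commutator subgroup. -/
noncomputable abbrev Om : Subgroup O8 := Omega K3 ⇑Q8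

/-- The spinor sign. -/
noncomputable abbrev sgn8 : O8 →* ℤˣ := sphereSign Q8

theorem om_index : Om.index = 4 := Forms.omega_index_odd Q8 (by decide) nondeg (by decide)

theorem mem_om_of_pow {g : O8} {n : ℕ} (hn : Odd n) (h : g ^ n = 1) : g ∈ Om := by
  have h4 : g ^ 4 ∈ Om := by
    have := Subgroup.pow_index_mem Om g
    rwa [om_index] at this
  have hn2 : g ^ (n * n) = 1 := by rw [pow_mul, h, one_pow]
  obtain ⟨k, rfl⟩ := hn
  have e : g = (g ^ 4) ^ (3 * (k * k + k) + 1) := by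
    rw [← pow_mul, show 4 * (3 * (k * k + k) + 1) = (2 * k + 1) * (2 * k + 1) * 3 + 1 by ring, pow_succ,
      pow_mul, hn2, one_pow, one_mul]
  rw [e]
  exact Subgroup.pow_mem _ h4 _

theorem mem_om_of_cube {g : O8} (h : g ^ 3 = 1) : g ∈ Om := mem_om_of_pow (by decide) h

theorem mem_om_iff (g : O8) : g ∈ Om ↔ sgn8 g = 1 ∧ (g.1 : Matrix I8 I8 K3).det = 1 :=
  QForm.mem_omega_iff_invariants (by decide) nondeg g

theorem exists_neg_one : ∃ m : O8, m ∈ Om ∧ (m.1 : Matrix I8 I8 K3) = -1 :=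
  (ClassicalSimple.negOne_plus (F := K3) (m := 4) ⟨1, by simp⟩).2 fun h =>
    absurd h.1 (Nat.not_odd_iff_even.2 ⟨2, rfl⟩)

theorem sgn_refl (v : I8 → K3) (hv : Q8 v ≠ 0) :
    sgn8 (refl Q8 v hv) = if Q8 v = 1 then -1 else 1 := by
  refine Units.ext ?_
  rw [QForm.sphereSign_refl Q8 (by decide) v hv]
  rcases (by decide : ∀ t : K3, t = 0 ∨ t = 1 ∨ t = 2) (Q8 v) with e | e | e
  · exact absurd e hv
  · rw [if_pos e, e, map_one]; rfl
  · rw [if_neg (by rw [e]; decide), e, show quadraticChar K3 2 = -1 from by decide]; rfl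

theorem q_vec {v : I8 → K3} {c : K3} (h : -(v ⬝ᵥ B8 *ᵥ v) = c) : Q8 v = c := (q8_eq v).trans h

theorem q_ne {v : I8 → K3} {c : K3} (h : -(v ⬝ᵥ B8 *ᵥ v) = c) (hc : c ≠ 0) : Q8 v ≠ 0 := by
  rw [q_vec h]; exact hc

theorem det_refl (v : I8 → K3) (hv : Q8 v ≠ 0) :
    ((refl Q8 v hv : O8).1 : Matrix I8 I8 K3).det = -1 :=
  QForm.det_reflectionMatrix Q8 hv

theorem matrix_mul (a b : O8) :
    ((a * b : O8).1 : Matrix I8 I8 K3) = (a.1 : Matrix I8 I8 K3) * (b.1 : Matrix I8 I8 K3) := rfl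

theorem det_mul' (a b : O8) : ((a * b : O8).1 : Matrix I8 I8 K3).det =
    (a.1 : Matrix I8 I8 K3).det * (b.1 : Matrix I8 I8 K3).det := by
  rw [matrix_mul, Matrix.det_mul]

/-- The matrix of a reflection. -/
def refMat (v : I8 → K3) : Matrix I8 I8 K3 :=
  1 - (-(v ⬝ᵥ B8 *ᵥ v)) • Matrix.vecMulVec v (B8 *ᵥ v)

theorem matrix_refl (v : I8 → K3) (hv : Q8 v ≠ 0) :
    ((refl Q8 v hv : O8).1 : Matrix I8 I8 K3) = refMat v := by
  refine Matrix.ext_iff_mulVec.2 fun x => ?_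
  refine (QForm.act_refl Q8 v hv x).trans ?_
  have hinv : (Q8 v)⁻¹ = -(v ⬝ᵥ B8 *ᵥ v) := by
    rw [← q8_eq]
    exact (by decide +kernel : ∀ a : K3, a⁻¹ = a) _
  rw [refMat, Matrix.sub_mulVec, Matrix.one_mulVec, Matrix.smul_mulVec, Matrix.vecMulVec_mulVec, op_smul_eq_smul,
    smul_smul, hinv]
  congr 3
  show UnipSeven.pol Q8 v x = _
  rw [UnipSeven.pol_comm, pol_eq, dotProduct_comm]

/-- Commuting is an equation of matrices. -/
theorem commute_of_matrix {a b : O8}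
    (h : (a.1 : Matrix I8 I8 K3) * (b.1 : Matrix I8 I8 K3) = (b.1 : Matrix I8 I8 K3) * (a.1 : Matrix I8 I8 K3)) :
    Commute a b :=
  Subtype.ext (Units.ext h)

theorem commute_neg_one {m : O8} (hm : (m.1 : Matrix I8 I8 K3) = -1) (g : O8) : Commute m g :=
  commute_of_matrix (by rw [hm, neg_one_mul, mul_neg_one])

/-- Inversion by conjugation is an equation of matrices. -/
theorem conj_eq_inv_of_matrix {z g : O8}
    (h : (g.1 : Matrix I8 I8 K3) * ((z.1 : Matrix I8 I8 K3) * (g.1 : Matrix I8 I8 K3)) =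
      (z.1 : Matrix I8 I8 K3)) : z * g * z⁻¹ = g⁻¹ := by
  rw [mul_inv_eq_iff_eq_mul, eq_inv_mul_iff_mul_eq]
  exact Subtype.ext (Units.ext h)

end Cfsg.Agent.UnipEight
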