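import Cfsg.Agent.Lib.UnipSeven.Decompose

/-!
Decomposition of an isometry of order three of an eight-dimensional space over the field with three elements into
frames of five shapes.
-/

set_option autoImplicit false
set_option linter.unusedSectionVars false

namespace Cfsg.Agent.UnipEight

open scoped Matrix
open QForm (act)
open UnipSeven

/-- Shape `(2,2,2,2)`. -/
def GAA : Matrix (Fin 8) (Fin 8) K3 :=
  !![0, 0, 0, 1, 0, 0, 0, 0; 0, 0, -1, 0, 0, 0, 0, 0; 0, -1, 0, 0, 0, 0, 0, 0; 1, 0, 0, 0, 0, 0, 0, 0;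
    0, 0, 0, 0, 0, 0, 0, 1; 0, 0, 0, 0, 0, 0, -1, 0; 0, 0, 0, 0, 0, -1, 0, 0; 0, 0, 0, 0, 1, 0, 0, 0]

def SAA : Matrix (Fin 8) (Fin 8) K3 :=
  !![1, 0, 0, 0, 0, 0, 0, 0; 0, 1, 0, 0, 0, 0, 0, 0; 1, 0, 1, 0, 0, 0, 0, 0; 0, 1, 0, 1, 0, 0, 0, 0;
    0, 0, 0, 0, 1, 0, 0, 0; 0, 0, 0, 0, 0, 1, 0, 0; 0, 0, 0, 0, 1, 0, 1, 0; 0, 0, 0, 0, 0, 1, 0, 1]

theorem GAA_mul : GAA * GAA = 1 := by decide +kernel

theorem det_GAA : GAA.det ≠ 0 := det_ne_zero_of_mul GAA_mul

variable {ι : Type} [Fintype ι] [DecidableEq ι] {Q : QuadraticForm K3 (ι → K3)}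
variable {κ : Type} [Fintype κ] [DecidableEq κ]

/-- No more independent vectors than coordinates. -/
theorem card_add_le' {G : Matrix κ κ K3} (hG : G.det ≠ 0) {e : κ → ι → K3}
    (hgram : ∀ i j, pol Q (e i) (e j) = G i j) {μ : Type} [Fintype μ] [DecidableEq μ] {f : μ → ι → K3}
    (hf : LinearIndependent K3 f) (hperp : ∀ m, Perp Q e (f m)) :
    Fintype.card κ + Fintype.card μ ≤ Fintype.card ι := by
  have hli : LinearIndependent K3 (Sum.elim e f) := by
    rw [Fintype.linearIndependent_iff]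
    intro a ha
    rw [Fintype.sum_sum_type] at ha
    simp only [Sum.elim_inl, Sum.elim_inr] at ha
    have ha0 : (fun j => a (Sum.inl j)) = 0 := by
      refine Matrix.eq_zero_of_mulVec_eq_zero hG (funext fun i => ?_)
      have := congrArg (pol Q (e i)) ha
      rw [pol_add_right, pol_sum_smul_right, pol_sum_smul_right,
        show pol Q (e i) (0 : ι → K3) = 0 from QuadraticMap.polar_zero_right Q _,
        show ∑ m, a (Sum.inr m) * pol Q (e i) (f m) = 0 from
          Finset.sum_eq_zero fun m _ => by rw [hperp m i, mul_zero], add_zero] at this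
      refine (Finset.sum_congr rfl fun j _ => ?_).trans this
      rw [hgram, mul_comm]
    rintro (j | m)
    · exact congrFun ha0 j
    · rw [Finset.sum_eq_zero fun j _ => by rw [show a (Sum.inl j) = 0 from congrFun ha0 j, zero_smul],
        zero_add] at ha
      exact Fintype.linearIndependent_iff.1 hf _ ha m
  have h := hli.fintype_card_le_finrank
  rwa [Fintype.card_sum, Module.finrank_fintype_fun_eq_card] at h

variable {g : ↥(isometryGroup K3 ⇑Q)} (hg : g ^ 3 = 1) (hQ : (QuadraticMap.polarBilin Q).Nondegenerate)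
include hg hQ

theorem exists_frame_eight (h8 : Fintype.card ι = 8) (hne : g ≠ 1) :
    (∃ e, Frame g GA SA e) ∨ (∃ e, Frame g GAA SAA e) ∨ (∃ c : K3, c ≠ 0 ∧ ∃ e, Frame g (GB c) SB e) ∨
      (∃ c : K3, c ≠ 0 ∧ ∃ e, Frame g (GC c) SC e) ∨
      ∃ c d : K3, c ≠ 0 ∧ d ≠ 0 ∧ ∃ e, Frame g (GD c d) SD e := by
  by_cases hsq : ∀ x, nil g (nil g x) = 0
  · obtain ⟨x, hx⟩ : ∃ x, nil g x ≠ 0 := by
      by_contra! h
      exact hne (QForm.isometry_ext Q fun x => by rw [QForm.act_one, act_eq_self (h x)])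
    obtain ⟨f, -, fg, fm⟩ := exists_pairBlock hg hQ (G := (0 : Matrix (Fin 0) (Fin 0) K3)) (S := 0)
      (e := Fin.elim0) (by simp) (fun i => i.elim0) (fun i => i.elim0) (fun x _ => hsq x) (Perp.empty _ x) hx
    by_cases hfix : ∀ z, Perp Q f z → nil g z = 0
    · exact Or.inl ⟨f, fg, fm, fun z hz => act_eq_self (hfix z hz)⟩
    right; left
    push Not at hfix
    obtain ⟨z, hz, hz'⟩ := hfix
    obtain ⟨p, pp, pg, pm⟩ := exists_pairBlock hg hQ det_GA fg fm (fun x _ => hsq x) hz hz'
    set e : Fin 8 → ι → K3 := ![f 0, f 1, f 2, f 3, p 0, p 1, p 2, p 3] with he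
    have fp : ∀ i j, pol Q (p j) (f i) = 0 := fun i j => by rw [pol_comm]; exact pp j i
    have eg : ∀ i j, pol Q (e i) (e j) = GAA i j := by
      have pp' : ∀ i j, pol Q (f i) (p j) = 0 := fun i j => pp j i
      intro i j
      fin_cases i <;> fin_cases j <;> simp [e, GAA, GA, fg, pg, fp, pp']
    refine ⟨e, eg, ?_, fun w hw => ?_⟩
    · intro j
      fin_cases j <;> simp [e, SAA, SA, fm, pm, Fin.sum_univ_four, Fin.sum_univ_eight]
    · by_contra hw'
      have := card_add_le' det_GAA eg (μ := Unit) (f := fun _ => w)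
        (LinearIndependent.of_subsingleton () (fun h => hw' (by rw [h]; simp [act]))) (fun _ => hw)
      simp [h8] at this
  right; right
  push Not at hsq
  obtain ⟨x, hx⟩ := hsq
  obtain ⟨c, hc, f, -, fg, fm⟩ := exists_block hg hQ (G := (0 : Matrix (Fin 0) (Fin 0) K3)) (S := 0)
      (e := Fin.elim0) (by simp) (fun i => i.elim0) (fun i => i.elim0) (Perp.empty _ x) hx
  by_cases hsq' : ∀ z, Perp Q f z → nil g (nil g z) = 0
  · by_cases hfix : ∀ z, Perp Q f z → nil g z = 0
    · exact Or.inl ⟨c, hc, f, fg, fm, fun z hz => act_eq_self (hfix z hz)⟩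
    right; left
    push Not at hfix
    obtain ⟨z, hz, hz'⟩ := hfix
    obtain ⟨p, pp, pg, pm⟩ := exists_pairBlock hg hQ (det_GB c hc) fg fm hsq' hz hz'
    set e : Fin 7 → ι → K3 := ![f 0, f 1, f 2, p 0, p 1, p 2, p 3] with he
    have fp : ∀ i j, pol Q (p j) (f i) = 0 := fun i j => by rw [pol_comm]; exact pp j i
    have eg : ∀ i j, pol Q (e i) (e j) = GC c i j := by
      have pp' : ∀ i j, pol Q (f i) (p j) = 0 := fun i j => pp j i
      intro i j
      fin_cases i <;> fin_cases j <;> simp [e, GC, GA, GB, fg, pg, fp, pp']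
    have em : ∀ j, act Q g (e j) = ∑ i, SC i j • e i := by
      intro j
      fin_cases j <;> simp [e, SC, SA, SB, fm, pm, Fin.sum_univ_three, Fin.sum_univ_four, Fin.sum_univ_seven]
    refine ⟨c, hc, e, eg, em, fun w hw => ?_⟩
    by_contra hw'
    have hsq2 : ∀ u, Perp Q e u → nil g (nil g u) = 0 := by
      intro u hu
      by_contra hu'
      obtain ⟨d', hd', f', fp', fg', -⟩ := exists_block hg hQ (det_GC c hc) eg em hu hu'
      have := card_add_le' (det_GC c hc) eg (linearIndependent_of_gram (det_GB d' hd') fg') fp'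
      simp [h8] at this
    obtain ⟨f', fp', fg', -⟩ := exists_pairBlock hg hQ (det_GC c hc) eg em hsq2 hw
      (fun h => hw' (act_eq_self h))
    have := card_add_le' (det_GC c hc) eg (linearIndependent_of_gram det_GA fg') fp'
    simp [h8] at this
  · right; right
    push Not at hsq'
    obtain ⟨z, hz, hz'⟩ := hsq'
    obtain ⟨d, hd, p, pp, pg, pm⟩ := exists_block hg hQ (det_GB c hc) fg fm hz hz'
    set e : Fin 6 → ι → K3 := ![f 0, f 1, f 2, p 0, p 1, p 2] with he
    have fp : ∀ i j, pol Q (p j) (f i) = 0 := fun i j => by rw [pol_comm]; exact pp j i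
    have eg : ∀ i j, pol Q (e i) (e j) = GD c d i j := by
      have pp' : ∀ i j, pol Q (f i) (p j) = 0 := fun i j => pp j i
      intro i j
      fin_cases i <;> fin_cases j <;> simp [e, GD, GB, fg, pg, fp, pp']
    have em : ∀ j, act Q g (e j) = ∑ i, SD i j • e i := by
      intro j
      fin_cases j <;> simp [e, SD, SB, fm, pm, Fin.sum_univ_three, Fin.sum_univ_six]
    refine ⟨c, d, hc, hd, e, eg, em, fun w hw => ?_⟩
    have hsq2 : ∀ u, Perp Q e u → nil g (nil g u) = 0 := by
      intro u hu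
      by_contra hu'
      obtain ⟨d', hd', f', fp', fg', -⟩ := exists_block hg hQ (det_GD c d hc hd) eg em hu hu'
      have := card_add_le' (det_GD c d hc hd) eg (linearIndependent_of_gram (det_GB d' hd') fg') fp'
      simp [h8] at this
    by_contra hw'
    obtain ⟨f', fp', fg', -⟩ := exists_pairBlock hg hQ (det_GD c d hc hd) eg em hsq2 hw
      (fun h => hw' (act_eq_self h))
    have := card_add_le' (det_GD c d hc hd) eg (linearIndependent_of_gram det_GA fg') fp'
    simp [h8] at this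

end Cfsg.Agent.UnipEight
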