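import Cfsg.Agent.Lib.UnipEight.Model
import Cfsg.Agent.Lib.UnipEight.Decompose
import Cfsg.Agent.Lib.UnipSeven.Reps

/-!
Representatives of the eight classes of elements of order three of the eight-dimensional orthogonal group.
-/

set_option autoImplicit false

namespace Cfsg.Agent.UnipEight

open UnipSeven (K3 Frame GA SA GB SB GB' GC SC GC' GD SD GD')

/-- The matrix of class A. -/
def MA : Matrix I8 I8 K3 :=
  ((!![1, 0, 0, 0, 0, 0, 0, 0;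
      0, 1, 0, 0, 0, 0, 0, 0;
      0, 0, 1, 0, 0, 0, 0, 2;
      0, 0, 0, 1, 0, 0, 1, 0;
      0, 0, 0, 0, 1, 0, 0, 0;
      0, 0, 0, 0, 0, 1, 0, 0;
      0, 0, 0, 0, 0, 0, 1, 0;
      0, 0, 0, 0, 0, 0, 0, 1] :
    Matrix (Fin 8) (Fin 8) K3)).submatrix idx idx

def EA : Matrix I8 (Fin 4) K3 :=
  ((!![0, 0, 0, 0;
      0, 0, 0, 0;
      0, 0, 2, 0;
      0, 0, 0, 1;
      0, 0, 0, 0;
      0, 0, 0, 0;
      0, 1, 0, 0;
      1, 0, 0, 0] :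
    Matrix (Fin 8) (Fin 4) K3)).submatrix idx id

theorem isoA : MA.transpose * B8 * MA = B8 := by decide +kernel

theorem cubeA : MA * (MA * MA) = 1 := by decide +kernel

theorem MA_ne : MA ≠ 1 := by decide +kernel

/-- The representative of class A. -/
noncomputable def gA : O8 := mk3 MA isoA cubeA

theorem gA_cube : gA ^ 3 = 1 := mk3_cube _ _ _

theorem shapeA : MA = repMat EA SA GA := by decide +kernel

theorem frameA : Frame gA GA SA fun i p => EA p i :=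
  frame_mk3 shapeA isoA cubeA (by decide +kernel) (by decide +kernel)

/-- The matrix of class A4. -/
def MA4 : Matrix I8 I8 K3 :=
  ((!![1, 0, 0, 0, 0, 1, 0, 0;
      0, 1, 0, 0, 2, 0, 0, 0;
      0, 0, 1, 0, 0, 0, 0, 1;
      0, 0, 0, 1, 0, 0, 2, 0;
      0, 0, 0, 0, 1, 0, 0, 0;
      0, 0, 0, 0, 0, 1, 0, 0;
      0, 0, 0, 0, 0, 0, 1, 0;
      0, 0, 0, 0, 0, 0, 0, 1] :
    Matrix (Fin 8) (Fin 8) K3)).submatrix idx idx

def EA4 : Matrix I8 (Fin 8) K3 :=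
  ((!![0, 0, 0, 1, 0, 0, 0, 0;
      0, 0, 2, 0, 0, 0, 0, 0;
      0, 0, 0, 0, 0, 0, 0, 1;
      0, 0, 0, 0, 0, 0, 2, 0;
      1, 0, 0, 0, 0, 0, 0, 0;
      0, 1, 0, 0, 0, 0, 0, 0;
      0, 0, 0, 0, 1, 0, 0, 0;
      0, 0, 0, 0, 0, 1, 0, 0] :
    Matrix (Fin 8) (Fin 8) K3)).submatrix idx id

theorem isoA4 : MA4.transpose * B8 * MA4 = B8 := by decide +kernel

theorem cubeA4 : MA4 * (MA4 * MA4) = 1 := by decide +kernel

theorem MA4_ne : MA4 ≠ 1 := by decide +kernel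

/-- The representative of class A4. -/
noncomputable def gA4 : O8 := mk3 MA4 isoA4 cubeA4

theorem gA4_cube : gA4 ^ 3 = 1 := mk3_cube _ _ _

theorem shapeA4 : MA4 = repMat EA4 SAA GAA := by decide +kernel

theorem frameA4 : Frame gA4 GAA SAA fun i p => EA4 p i :=
  frame_mk3 shapeA4 isoA4 cubeA4 (by decide +kernel) (by decide +kernel)

/-- The matrix of class B1. -/
def MB1 : Matrix I8 I8 K3 :=
  ((!![1, 0, 0, 0, 0, 0, 0, 0;
      0, 1, 0, 0, 0, 0, 0, 0;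
      0, 0, 0, 2, 0, 0, 2, 0;
      0, 0, 1, 1, 0, 0, 1, 2;
      0, 0, 0, 0, 1, 0, 0, 0;
      0, 0, 0, 0, 0, 1, 0, 0;
      0, 0, 2, 2, 0, 0, 0, 0;
      0, 0, 0, 2, 0, 0, 0, 0] :
    Matrix (Fin 8) (Fin 8) K3)).submatrix idx idx

def EB1 : Matrix I8 (Fin 3) K3 :=
  ((!![0, 0, 0;
      0, 0, 0;
      0, 0, 1;
      0, 2, 1;
      0, 0, 0;
      0, 0, 0;
      0, 0, 1;
      1, 2, 2] :
    Matrix (Fin 8) (Fin 3) K3)).submatrix idx id

theorem isoB1 : MB1.transpose * B8 * MB1 = B8 := by decide +kernel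

theorem cubeB1 : MB1 * (MB1 * MB1) = 1 := by decide +kernel

theorem MB1_ne : MB1 ≠ 1 := by decide +kernel

/-- The representative of class B1. -/
noncomputable def gB1 : O8 := mk3 MB1 isoB1 cubeB1

theorem gB1_cube : gB1 ^ 3 = 1 := mk3_cube _ _ _

theorem shapeB1 : MB1 = repMat EB1 SB (GB' 1) := by decide +kernel

theorem frameB1 : Frame gB1 (GB 1) SB fun i p => EB1 p i :=
  frame_mk3 shapeB1 isoB1 cubeB1 (by decide +kernel) (by decide +kernel)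

/-- The matrix of class B2. -/
def MB2 : Matrix I8 I8 K3 :=
  ((!![1, 0, 0, 0, 0, 0, 0, 0;
      0, 1, 0, 0, 0, 0, 0, 0;
      0, 0, 0, 1, 0, 0, 1, 0;
      0, 0, 2, 1, 0, 0, 1, 1;
      0, 0, 0, 0, 1, 0, 0, 0;
      0, 0, 0, 0, 0, 1, 0, 0;
      0, 0, 1, 2, 0, 0, 0, 0;
      0, 0, 0, 1, 0, 0, 0, 0] :
    Matrix (Fin 8) (Fin 8) K3)).submatrix idx idx

def EB2 : Matrix I8 (Fin 3) K3 :=
  ((!![0, 0, 0;
      0, 0, 0;
      0, 0, 1;
      0, 1, 2;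
      0, 0, 0;
      0, 0, 0;
      0, 0, 2;
      1, 2, 2] :
    Matrix (Fin 8) (Fin 3) K3)).submatrix idx id

theorem isoB2 : MB2.transpose * B8 * MB2 = B8 := by decide +kernel

theorem cubeB2 : MB2 * (MB2 * MB2) = 1 := by decide +kernel

theorem MB2_ne : MB2 ≠ 1 := by decide +kernel

/-- The representative of class B2. -/
noncomputable def gB2 : O8 := mk3 MB2 isoB2 cubeB2

theorem gB2_cube : gB2 ^ 3 = 1 := mk3_cube _ _ _

theorem shapeB2 : MB2 = repMat EB2 SB (GB' 2) := by decide +kernel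

theorem frameB2 : Frame gB2 (GB 2) SB fun i p => EB2 p i :=
  frame_mk3 shapeB2 isoB2 cubeB2 (by decide +kernel) (by decide +kernel)

/-- The matrix of class C1. -/
def MC1 : Matrix I8 I8 K3 :=
  ((!![1, 0, 0, 0, 0, 2, 0, 0;
      0, 1, 0, 0, 1, 0, 0, 0;
      0, 0, 0, 2, 0, 0, 2, 0;
      0, 0, 1, 1, 0, 0, 1, 2;
      0, 0, 0, 0, 1, 0, 0, 0;
      0, 0, 0, 0, 0, 1, 0, 0;
      0, 0, 2, 2, 0, 0, 0, 0;
      0, 0, 0, 2, 0, 0, 0, 0] :
    Matrix (Fin 8) (Fin 8) K3)).submatrix idx idx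

def EC1 : Matrix I8 (Fin 7) K3 :=
  ((!![0, 0, 0, 0, 0, 2, 0;
      0, 0, 0, 0, 0, 0, 1;
      0, 0, 1, 0, 0, 0, 0;
      0, 2, 1, 0, 0, 0, 0;
      0, 0, 0, 0, 1, 0, 0;
      0, 0, 0, 1, 0, 0, 0;
      0, 0, 1, 0, 0, 0, 0;
      1, 2, 2, 0, 0, 0, 0] :
    Matrix (Fin 8) (Fin 7) K3)).submatrix idx id

theorem isoC1 : MC1.transpose * B8 * MC1 = B8 := by decide +kernel

theorem cubeC1 : MC1 * (MC1 * MC1) = 1 := by decide +kernel

theorem MC1_ne : MC1 ≠ 1 := by decide +kernel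

/-- The representative of class C1. -/
noncomputable def gC1 : O8 := mk3 MC1 isoC1 cubeC1

theorem gC1_cube : gC1 ^ 3 = 1 := mk3_cube _ _ _

theorem shapeC1 : MC1 = repMat EC1 SC (GC' 1) := by decide +kernel

theorem frameC1 : Frame gC1 (GC 1) SC fun i p => EC1 p i :=
  frame_mk3 shapeC1 isoC1 cubeC1 (by decide +kernel) (by decide +kernel)

/-- The matrix of class C2. -/
def MC2 : Matrix I8 I8 K3 :=
  ((!![1, 0, 0, 0, 0, 2, 0, 0;
      0, 1, 0, 0, 1, 0, 0, 0;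
      0, 0, 0, 1, 0, 0, 1, 0;
      0, 0, 2, 1, 0, 0, 1, 1;
      0, 0, 0, 0, 1, 0, 0, 0;
      0, 0, 0, 0, 0, 1, 0, 0;
      0, 0, 1, 2, 0, 0, 0, 0;
      0, 0, 0, 1, 0, 0, 0, 0] :
    Matrix (Fin 8) (Fin 8) K3)).submatrix idx idx

def EC2 : Matrix I8 (Fin 7) K3 :=
  ((!![0, 0, 0, 0, 0, 2, 0;
      0, 0, 0, 0, 0, 0, 1;
      0, 0, 1, 0, 0, 0, 0;
      0, 1, 2, 0, 0, 0, 0;
      0, 0, 0, 0, 1, 0, 0;
      0, 0, 0, 1, 0, 0, 0;
      0, 0, 2, 0, 0, 0, 0;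
      1, 2, 2, 0, 0, 0, 0] :
    Matrix (Fin 8) (Fin 7) K3)).submatrix idx id

theorem isoC2 : MC2.transpose * B8 * MC2 = B8 := by decide +kernel

theorem cubeC2 : MC2 * (MC2 * MC2) = 1 := by decide +kernel

theorem MC2_ne : MC2 ≠ 1 := by decide +kernel

/-- The representative of class C2. -/
noncomputable def gC2 : O8 := mk3 MC2 isoC2 cubeC2

theorem gC2_cube : gC2 ^ 3 = 1 := mk3_cube _ _ _

theorem shapeC2 : MC2 = repMat EC2 SC (GC' 2) := by decide +kernel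

theorem frameC2 : Frame gC2 (GC 2) SC fun i p => EC2 p i :=
  frame_mk3 shapeC2 isoC2 cubeC2 (by decide +kernel) (by decide +kernel)

/-- The matrix of class D1. -/
def MD1 : Matrix I8 I8 K3 :=
  ((!![0, 2, 0, 0, 2, 0, 0, 0;
      1, 1, 0, 0, 1, 2, 0, 0;
      0, 0, 0, 2, 0, 0, 2, 0;
      0, 0, 1, 1, 0, 0, 1, 2;
      2, 2, 0, 0, 0, 0, 0, 0;
      0, 2, 0, 0, 0, 0, 0, 0;
      0, 0, 2, 2, 0, 0, 0, 0;
      0, 0, 0, 2, 0, 0, 0, 0] :
    Matrix (Fin 8) (Fin 8) K3)).submatrix idx idx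

def ED1 : Matrix I8 (Fin 6) K3 :=
  ((!![0, 0, 0, 0, 0, 1;
      0, 0, 0, 0, 2, 1;
      0, 0, 1, 0, 0, 0;
      0, 2, 1, 0, 0, 0;
      0, 0, 0, 0, 0, 1;
      0, 0, 0, 1, 2, 2;
      0, 0, 1, 0, 0, 0;
      1, 2, 2, 0, 0, 0] :
    Matrix (Fin 8) (Fin 6) K3)).submatrix idx id

theorem isoD1 : MD1.transpose * B8 * MD1 = B8 := by decide +kernel

theorem cubeD1 : MD1 * (MD1 * MD1) = 1 := by decide +kernel

theorem MD1_ne : MD1 ≠ 1 := by decide +kernel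

/-- The representative of class D1. -/
noncomputable def gD1 : O8 := mk3 MD1 isoD1 cubeD1

theorem gD1_cube : gD1 ^ 3 = 1 := mk3_cube _ _ _

theorem shapeD1 : MD1 = repMat ED1 SD (GD' 1 1) := by decide +kernel

theorem frameD1 : Frame gD1 (GD 1 1) SD fun i p => ED1 p i :=
  frame_mk3 shapeD1 isoD1 cubeD1 (by decide +kernel) (by decide +kernel)

/-- The matrix of class D2. -/
def MD2 : Matrix I8 I8 K3 :=
  ((!![1, 0, 0, 0, 0, 0, 0, 0;
      0, 1, 2, 0, 0, 1, 1, 0;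
      0, 1, 2, 2, 0, 0, 0, 0;
      0, 0, 1, 1, 0, 0, 1, 2;
      0, 0, 0, 0, 1, 0, 0, 0;
      0, 1, 0, 0, 0, 0, 0, 0;
      0, 2, 0, 2, 0, 0, 2, 0;
      0, 0, 0, 2, 0, 0, 0, 0] :
    Matrix (Fin 8) (Fin 8) K3)).submatrix idx idx

def ED2 : Matrix I8 (Fin 6) K3 :=
  ((!![0, 0, 0, 0, 0, 0;
      0, 0, 0, 0, 1, 2;
      0, 0, 1, 0, 0, 1;
      0, 2, 1, 0, 0, 0;
      0, 0, 0, 0, 0, 0;
      0, 0, 0, 1, 2, 2;
      0, 0, 1, 0, 0, 2;
      1, 2, 2, 0, 0, 0] :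
    Matrix (Fin 8) (Fin 6) K3)).submatrix idx id

theorem isoD2 : MD2.transpose * B8 * MD2 = B8 := by decide +kernel

theorem cubeD2 : MD2 * (MD2 * MD2) = 1 := by decide +kernel

theorem MD2_ne : MD2 ≠ 1 := by decide +kernel

/-- The representative of class D2. -/
noncomputable def gD2 : O8 := mk3 MD2 isoD2 cubeD2

theorem gD2_cube : gD2 ^ 3 = 1 := mk3_cube _ _ _

theorem shapeD2 : MD2 = repMat ED2 SD (GD' 1 2) := by decide +kernel

theorem frameD2 : Frame gD2 (GD 1 2) SD fun i p => ED2 p i :=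
  frame_mk3 shapeD2 isoD2 cubeD2 (by decide +kernel) (by decide +kernel)

end Cfsg.Agent.UnipEight
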