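import Cfsg.Agent.Lib.UnipEight.Basics
import Cfsg.Agent.Lib.UnipEight.Reps
import Cfsg.Agent.Lib.QForm.Levi

/-!
The centraliser of the representative with four blocks of size two lies in the commutator subgroup.
-/

set_option autoImplicit false
set_option linter.unusedSectionVars false

namespace Cfsg.Agent.UnipEight

open scoped Matrix
open UnipSeven (K3)

/-- The alternating matrix of the representative. -/
def JA : Matrix (Fin 4) (Fin 4) K3 := !![0, 1, 0, 0; -1, 0, 0, 0; 0, 0, 0, 1; 0, 0, -1, 0]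

theorem MA4_blocks : MA4 = Matrix.fromBlocks 1 JA 0 1 := by decide +kernel

theorem JA_det : JA.det = 1 := by decide +kernel

/-- A four by four matrix preserving the alternating form has determinant one. -/
theorem det_of_symplectic (P : Matrix (Fin 4) (Fin 4) K3) (h : P * JA * Pᵀ = JA) : P.det = 1 := by
  have e : ∀ i j, (P * JA * Pᵀ) i j = JA i j := fun i j => by rw [h]
  have h01 := e 0 1
  have h02 := e 0 2
  have h03 := e 0 3
  have h12 := e 1 2
  have h13 := e 1 3
  have h23 := e 2 3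
  simp [Matrix.mul_apply, Fin.sum_univ_four, JA] at h01 h02 h03 h12 h13 h23
  have key : (P * JA * Pᵀ) 0 1 * (P * JA * Pᵀ) 2 3 - (P * JA * Pᵀ) 0 2 * (P * JA * Pᵀ) 1 3 +
      (P * JA * Pᵀ) 0 3 * (P * JA * Pᵀ) 1 2 = P.det := by
    rw [Matrix.det_succ_row_zero]
    simp [Fin.sum_univ_succ, Matrix.det_fin_three, Fin.succAbove, JA, Matrix.mul_apply]
    ring
  rw [h] at key
  rw [← key]
  decide +kernel

theorem commA4 {z : O8} (hz : Commute z gA4) : z ∈ Om := by
  have hc : (z.1 : Matrix I8 I8 K3) * MA4 = MA4 * (z.1 : Matrix I8 I8 K3) :=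
    congrArg (fun y : O8 => (y.1 : Matrix I8 I8 K3)) hz
  have hf := iso_matrix z
  obtain ⟨P, R, S, T, hblk⟩ : ∃ P R S T, (z.1 : Matrix I8 I8 K3) = Matrix.fromBlocks P R S T :=
    ⟨_, _, _, _, (Matrix.fromBlocks_toBlocks _).symm⟩
  rw [hblk, MA4_blocks] at hc
  rw [hblk, B8] at hf
  simp only [Matrix.fromBlocks_multiply, Matrix.fromBlocks_inj, Matrix.mul_one, Matrix.one_mul, Matrix.mul_zero,
    Matrix.zero_mul, add_zero, zero_add] at hc
  obtain ⟨hJS, hJT, -, -⟩ := hc
  have hJ : (-JA) * JA = 1 := by decide +kernel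
  have hS : S = 0 := by
    have h0 : JA * S = 0 := by simpa [eq_comm] using hJS
    rw [← Matrix.one_mul S, ← hJ, Matrix.mul_assoc, h0, Matrix.mul_zero]
  subst hS
  simp only [Matrix.fromBlocks_transpose, Matrix.fromBlocks_multiply, Matrix.fromBlocks_inj, Matrix.mul_one,
    Matrix.one_mul, Matrix.mul_zero, Matrix.zero_mul, add_zero, zero_add, Matrix.transpose_zero] at hf
  obtain ⟨-, hPT, -, -⟩ := hf
  have hPJ : P * JA = JA * T := by
    rw [add_comm R] at hJT
    exact add_right_cancel hJT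
  have hTP : T * Pᵀ = 1 := mul_eq_one_comm.1 hPT
  have hdet := det_of_symplectic P (by rw [hPJ, Matrix.mul_assoc, hTP, Matrix.mul_one])
  let A : GL (Fin 4) K3 := Matrix.GeneralLinearGroup.mkOfDetNeZero P (by rw [hdet]; exact one_ne_zero)
  have hA : ((A : Matrix (Fin 4) (Fin 4) K3)⁻¹)ᵀ = T := by
    show (P⁻¹)ᵀ = T
    rw [Matrix.transpose_nonsing_inv]
    exact Matrix.inv_eq_right_inv hPT
  have hlevi : QForm.levi A ∈ Om := (QForm.levi_mem_omega_iff (by decide) (Or.inl (by decide)) A).2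
    ⟨1, by show P.det = _; rw [hdet]; rfl⟩
  have hy : (QForm.levi A)⁻¹ * z ∈ Om := by
    set y := (QForm.levi A)⁻¹ * z with hy
    set W := (P⁻¹ * R)
    have hmat : (y.1 : Matrix I8 I8 K3) = Matrix.fromBlocks 1 W 0 1 := by
      have h1 : ((QForm.levi A : O8).1 : Matrix I8 I8 K3) * (y.1 : Matrix I8 I8 K3) =
          (z.1 : Matrix I8 I8 K3) := by
        rw [← matrix_mul, hy, mul_inv_cancel_left]
      have h2 : ((QForm.levi A : O8).1 : Matrix I8 I8 K3) * Matrix.fromBlocks 1 W 0 1 =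
          (z.1 : Matrix I8 I8 K3) := by
        rw [QForm.coe_levi, hA, hblk, Matrix.fromBlocks_multiply]
        show Matrix.fromBlocks _ _ _ _ = _
        simp only [Matrix.mul_one, Matrix.mul_zero, Matrix.zero_mul, add_zero, zero_add, W]
        show Matrix.fromBlocks P (P * (P⁻¹ * R)) 0 T = _
        rw [Matrix.mul_nonsing_inv_cancel_left _ _ (by rw [hdet]; exact isUnit_one)]
      exact (Units.isUnit (QForm.levi A : O8).1).mul_left_cancel (h1.trans h2.symm)
    have h3 : ((y * y * y : O8).1 : Matrix I8 I8 K3) = 1 := ?_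
    · refine mem_om_of_cube ?_
      rw [pow_succ, pow_two]
      apply Subtype.ext
      apply Units.ext
      rw [OneMemClass.coe_one, Units.val_one]
      exact h3
    rw [matrix_mul, matrix_mul, hmat, Matrix.fromBlocks_multiply, Matrix.fromBlocks_multiply,
      ← Matrix.fromBlocks_one]
    simp only [Matrix.mul_one, Matrix.one_mul, Matrix.mul_zero, Matrix.zero_mul, add_zero, zero_add]
    rw [Matrix.fromBlocks_inj]
    refine ⟨rfl, ?_, rfl, rfl⟩
    ext i j
    simp only [Matrix.add_apply, Matrix.zero_apply]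
    exact (by decide : ∀ a : K3, a + (a + a) = 0) _
  have := Subgroup.mul_mem _ hlevi hy
  rwa [mul_inv_cancel_left] at this

/-- An inverting element in the commutator subgroup. -/
theorem invA4 : ∃ z : O8, z ∈ Om ∧ z * gA4 * z⁻¹ = gA4⁻¹ := by
  let D : GL (Fin 4) K3 := Matrix.GeneralLinearGroup.mkOfDetNeZero (Matrix.diagonal ![1, -1, 1, -1])
    (by decide +kernel)
  refine ⟨QForm.levi D, (QForm.levi_mem_omega_iff (by decide) (Or.inl (by decide)) D).2 ⟨1, ?_⟩,
    conj_eq_inv_of_matrix ?_⟩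
  · show (Matrix.diagonal ![(1 : K3), -1, 1, -1]).det = _
    decide +kernel
  · have hD : (((D : Matrix (Fin 4) (Fin 4) K3))⁻¹)ᵀ = Matrix.diagonal ![(1 : K3), -1, 1, -1] := by
      rw [Matrix.transpose_nonsing_inv]
      refine Matrix.inv_eq_right_inv ?_
      show (Matrix.diagonal ![(1 : K3), -1, 1, -1])ᵀ * _ = 1
      decide +kernel
    show MA4 * (((QForm.levi D : O8).1 : Matrix I8 I8 K3) * MA4) = ((QForm.levi D : O8).1 : Matrix I8 I8 K3)
    rw [QForm.coe_levi, hD]
    show MA4 * (Matrix.fromBlocks (Matrix.diagonal ![(1 : K3), -1, 1, -1]) 0 0 _ * MA4) = _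
    decide +kernel

end Cfsg.Agent.UnipEight
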