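import Cfsg.Agent.Lib.UnipEight.Basics
import Cfsg.Agent.Lib.UnipEight.Reps

/-!
The centraliser of a representative with blocks `3, 2, 2` is generated, modulo the commutator subgroup, by the
reflection in its fixed line; its inverting element can be chosen in the commutator subgroup.
-/

set_option autoImplicit false
set_option linter.unusedSectionVars false
set_option maxHeartbeats 1000000

namespace Cfsg.Agent.UnipEight

open scoped Matrix
open UnipSeven (K3)
open QForm (refl)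

/-- The Gram matrix of a frame with its fixed vector. -/
def G8 (c : K3) : Matrix (Fin 8) (Fin 8) K3 :=
  !![0, -c, c, 0, 0, 0, 0, 0; -c, -c, 0, 0, 0, 0, 0, 0; c, 0, 0, 0, 0, 0, 0, 0;
    0, 0, 0, 0, 0, 0, 1, 0; 0, 0, 0, 0, 0, -1, 0, 0; 0, 0, 0, 0, -1, 0, 0, 0; 0, 0, 0, 1, 0, 0, 0, 0;
    0, 0, 0, 0, 0, 0, 0, c]

/-- The inverse of `G8 c`. -/
def G8' (c : K3) : Matrix (Fin 8) (Fin 8) K3 :=
  !![0, 0, c, 0, 0, 0, 0, 0; 0, -c, -c, 0, 0, 0, 0, 0; c, -c, -c, 0, 0, 0, 0, 0;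
    0, 0, 0, 0, 0, 0, 1, 0; 0, 0, 0, 0, 0, -1, 0, 0; 0, 0, 0, 0, -1, 0, 0, 0; 0, 0, 0, 1, 0, 0, 0, 0;
    0, 0, 0, 0, 0, 0, 0, c]

/-- The action on a frame with its fixed vector. -/
def S8 : Matrix (Fin 8) (Fin 8) K3 :=
  !![1, 0, 0, 0, 0, 0, 0, 0; 1, 1, 0, 0, 0, 0, 0, 0; 0, 1, 1, 0, 0, 0, 0, 0;
    0, 0, 0, 1, 0, 0, 0, 0; 0, 0, 0, 0, 1, 0, 0, 0; 0, 0, 0, 1, 0, 1, 0, 0; 0, 0, 0, 0, 1, 0, 1, 0;
    0, 0, 0, 0, 0, 0, 0, 1]

/-- The matrix of the reflection in the fixed vector. -/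
def R8 : Matrix (Fin 8) (Fin 8) K3 := Matrix.diagonal ![1, 1, 1, 1, 1, 1, 1, -1]

/-- Coordinates adapted to a representative. -/
structure Coords (g r : O8) (c : K3) (E : Matrix I8 (Fin 8) K3) (P : Matrix (Fin 8) I8 K3) : Prop where
  ne : c ≠ 0
  EP : E * P = 1
  PE : P * E = 1
  move : (g.1 : Matrix I8 I8 K3) * E = E * S8
  form : Eᵀ * B8 * E = G8 c
  flip : (r.1 : Matrix I8 I8 K3) = E * R8 * P

section

variable {g r : O8} {c : K3} {E : Matrix I8 (Fin 8) K3} {P : Matrix (Fin 8) I8 K3}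
variable (C : Coords g r c E P)
include C

theorem Coords.moveP : P * (g.1 : Matrix I8 I8 K3) = S8 * P := by
  calc P * (g.1 : Matrix I8 I8 K3) = P * ((g.1 : Matrix I8 I8 K3) * (E * P)) := by rw [C.EP, Matrix.mul_one]
    _ = P * E * S8 * P := by rw [← Matrix.mul_assoc (g.1 : Matrix I8 I8 K3), C.move]; simp only [Matrix.mul_assoc]
    _ = S8 * P := by rw [C.PE, Matrix.one_mul]

theorem Coords.formP : Pᵀ * G8 c * P = B8 := by
  calc Pᵀ * G8 c * P = (E * P)ᵀ * B8 * (E * P) := by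
        rw [← C.form]; simp only [Matrix.transpose_mul, Matrix.mul_assoc]
    _ = B8 := by rw [C.EP, Matrix.transpose_one, Matrix.one_mul, Matrix.mul_one]

/-- The matrix in frame coordinates. -/
noncomputable def Coords.coord (_C : Coords g r c E P) (z : O8) : Matrix (Fin 8) (Fin 8) K3 :=
  P * (z.1 : Matrix I8 I8 K3) * E

theorem Coords.coord_mul (y z : O8) : C.coord (y * z) = C.coord y * C.coord z := by
  show P * ((y.1 : Matrix I8 I8 K3) * (z.1 : Matrix I8 I8 K3)) * E = _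
  simp only [Coords.coord, Matrix.mul_assoc]
  rw [← Matrix.mul_assoc E P, C.EP, Matrix.one_mul]

theorem Coords.coord_one : C.coord 1 = 1 := by
  show P * 1 * E = 1
  rw [Matrix.mul_one, C.PE]

theorem Coords.coord_pow (z : O8) (n : ℕ) : C.coord (z ^ n) = C.coord z ^ n := by
  induction n with
  | zero => rw [pow_zero, pow_zero, C.coord_one]
  | succ n ih => rw [pow_succ, pow_succ, C.coord_mul, ih]

theorem Coords.eq_one {z : O8} (h : C.coord z = 1) : z = 1 := by
  refine Subtype.ext (Units.ext ?_)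
  calc (z.1 : Matrix I8 I8 K3) = E * C.coord z * P := by
        simp only [Coords.coord, ← Matrix.mul_assoc, C.EP, Matrix.one_mul]
        rw [Matrix.mul_assoc, C.EP, Matrix.mul_one]
    _ = 1 := by rw [h, Matrix.mul_one, C.EP]

theorem Coords.coord_form (z : O8) : (C.coord z)ᵀ * G8 c * C.coord z = G8 c := by
  calc (C.coord z)ᵀ * G8 c * C.coord z
      = Eᵀ * ((z.1 : Matrix I8 I8 K3)ᵀ * (Pᵀ * G8 c * P) * (z.1 : Matrix I8 I8 K3)) * E := by
        simp only [Coords.coord, Matrix.transpose_mul, Matrix.mul_assoc]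
    _ = G8 c := by rw [C.formP, iso_matrix, C.form]

theorem Coords.coord_comm {z : O8} (h : Commute z g) : C.coord z * S8 = S8 * C.coord z := by
  have h' : (z.1 : Matrix I8 I8 K3) * (g.1 : Matrix I8 I8 K3) = (g.1 : Matrix I8 I8 K3) * (z.1 : Matrix I8 I8 K3) :=
    congrArg (fun y : O8 => (y.1 : Matrix I8 I8 K3)) h
  calc C.coord z * S8 = P * ((z.1 : Matrix I8 I8 K3) * (g.1 : Matrix I8 I8 K3)) * E := by
        simp only [Coords.coord, Matrix.mul_assoc, C.move]
    _ = S8 * C.coord z := by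
        rw [h']
        simp only [Coords.coord, ← Matrix.mul_assoc, C.moveP]

theorem Coords.commute_flip : Commute r g := by
  have h : R8 * S8 = S8 * R8 := by decide +kernel
  refine commute_of_matrix ?_
  rw [C.flip]
  calc E * R8 * P * (g.1 : Matrix I8 I8 K3) = E * (R8 * S8) * P := by
        simp only [Matrix.mul_assoc, C.moveP]
    _ = E * S8 * R8 * P := by rw [h]; simp only [Matrix.mul_assoc]
    _ = (g.1 : Matrix I8 I8 K3) * (E * R8 * P) := by
        rw [← C.move]; simp only [Matrix.mul_assoc]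

theorem Coords.coord_flip : C.coord r = R8 := by
  rw [Coords.coord, C.flip]
  simp only [← Matrix.mul_assoc, C.PE, Matrix.one_mul]
  rw [Matrix.mul_assoc, C.PE, Matrix.mul_one]

end

/-- The block diagonal matrix of a two by two matrix acting on both pairs. -/
def wMat (a b c d : K3) : Matrix (Fin 8) (Fin 8) K3 :=
  !![1, 0, 0, 0, 0, 0, 0, 0; 0, 1, 0, 0, 0, 0, 0, 0; 0, 0, 1, 0, 0, 0, 0, 0;
    0, 0, 0, a, b, 0, 0, 0; 0, 0, 0, c, d, 0, 0, 0; 0, 0, 0, 0, 0, a, b, 0; 0, 0, 0, 0, 0, c, d, 0;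
    0, 0, 0, 0, 0, 0, 0, 1]

theorem wMat_facts : ∀ e t : K3, ∀ u : Bool, e ≠ 0 →
    (let W := if u then wMat 1 t 0 1 else wMat 1 0 t 1
     Wᵀ * G8 e * W = G8 e ∧ W * (W * W) = 1 ∧ W * S8 = S8 * W) := by
  decide +kernel

theorem exists_transvection {g r : O8} {c : K3} {E : Matrix I8 (Fin 8) K3} {P : Matrix (Fin 8) I8 K3}
    (C : Coords g r c E P) (t : K3) (u : Bool) :
    ∃ z : O8, Commute z g ∧ z ∈ Om ∧ C.coord z = if u then wMat 1 t 0 1 else wMat 1 0 t 1 := by
  have hW := wMat_facts c t u C.ne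
  simp only at hW
  generalize (if u then wMat 1 t 0 1 else wMat 1 0 t 1) = W at hW ⊢
  obtain ⟨h1, h2, h3⟩ := hW
  have hiso : (E * W * P)ᵀ * B8 * (E * W * P) = B8 := by
    calc (E * W * P)ᵀ * B8 * (E * W * P) = Pᵀ * (Wᵀ * (Eᵀ * B8 * E) * W) * P := by
          simp only [Matrix.transpose_mul, Matrix.mul_assoc]
      _ = B8 := by rw [C.form, h1, C.formP]
  have hcube : E * W * P * (E * W * P * (E * W * P)) = 1 := by
    calc E * W * P * (E * W * P * (E * W * P))
        = E * (W * ((P * E) * (W * ((P * E) * W)))) * P := by simp only [Matrix.mul_assoc]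
      _ = 1 := by rw [C.PE, Matrix.one_mul, Matrix.one_mul, h2, Matrix.mul_one, C.EP]
  refine ⟨mk3 _ hiso hcube, ?_, mem_om_of_cube (mk3_cube _ _ _), ?_⟩
  · refine commute_of_matrix ?_
    show E * W * P * (g.1 : Matrix I8 I8 K3) = (g.1 : Matrix I8 I8 K3) * (E * W * P)
    calc E * W * P * (g.1 : Matrix I8 I8 K3) = E * (W * S8) * P := by simp only [Matrix.mul_assoc, C.moveP]
      _ = E * S8 * W * P := by rw [h3]; simp only [Matrix.mul_assoc]
      _ = _ := by rw [← C.move]; simp only [Matrix.mul_assoc]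
  · show P * (E * W * P) * E = _
    simp only [← Matrix.mul_assoc, C.PE, Matrix.one_mul]
    rw [Matrix.mul_assoc, C.PE, Matrix.mul_one]

/-- The level of a frame index. -/
def lvl : Fin 8 → ℕ := ![4, 2, 0, 3, 3, 1, 1, 2]

theorem pow_eq_zero_of_level {D : Matrix (Fin 8) (Fin 8) K3} (h : ∀ i j, lvl j ≤ lvl i → D i j = 0) :
    D ^ 9 = 0 := by
  have key : ∀ k : ℕ, ∀ i j, (D ^ k) i j ≠ 0 → lvl i + k ≤ lvl j := by
    intro k
    induction k with
    | zero =>
      intro i j hne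
      by_cases hij : i = j
      · rw [hij]; exact le_rfl
      · exact absurd (by rw [pow_zero, Matrix.one_apply_ne hij]) hne
    | succ k ih =>
      intro i j hne
      rw [pow_succ, Matrix.mul_apply] at hne
      obtain ⟨l, -, hl⟩ := Finset.exists_ne_zero_of_sum_ne_zero hne
      have h1 := ih i l (left_ne_zero_of_mul hl)
      have h2 : ¬ lvl j ≤ lvl l := fun hle => right_ne_zero_of_mul hl (h l j hle)
      omega
  ext i j
  by_contra hne
  have h1 := key 9 i j hne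
  have h2 : lvl j ≤ 4 := (by decide : ∀ j, lvl j ≤ 4) j
  omega

/-- Entries of a matrix commuting with `S8`. -/
theorem entries {M : Matrix (Fin 8) (Fin 8) K3} (hc : M * S8 = S8 * M) :
    (∀ i, M i 1 = ![0, M 0 0, M 1 0, 0, 0, M 3 0, M 4 0, 0] i) ∧
      (∀ i, M i 2 = ![0, 0, M 0 0, 0, 0, 0, 0, 0] i) ∧
      (∀ i, M i 5 = ![0, 0, M 1 3, 0, 0, M 3 3, M 4 3, 0] i) ∧
      (∀ i, M i 6 = ![0, 0, M 1 4, 0, 0, M 3 4, M 4 4, 0] i) ∧
      M 0 3 = 0 ∧ M 0 4 = 0 ∧ M 0 7 = 0 ∧ M 1 7 = 0 ∧ M 3 7 = 0 ∧ M 4 7 = 0 := by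
  have e := fun i j => congrFun (congrFun hc i) j
  simp only [Matrix.mul_apply, Fin.sum_univ_eight] at e
  have e01 : ∀ i, M i 1 = ![0, M 0 0, M 1 0, 0, 0, M 3 0, M 4 0, 0] i := by
    intro i
    have := e i 0
    fin_cases i <;> simp [S8] at this ⊢ <;> linear_combination this
  have e12 : ∀ i, M i 2 = ![0, M 0 1, M 1 1, 0, 0, M 3 1, M 4 1, 0] i := by
    intro i
    have := e i 1
    fin_cases i <;> simp [S8] at this ⊢ <;> linear_combination this
  have e35 : ∀ i, M i 5 = ![0, M 0 3, M 1 3, 0, 0, M 3 3, M 4 3, 0] i := by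
    intro i
    have := e i 3
    fin_cases i <;> simp [S8] at this ⊢ <;> linear_combination this
  have e46 : ∀ i, M i 6 = ![0, M 0 4, M 1 4, 0, 0, M 3 4, M 4 4, 0] i := by
    intro i
    have := e i 4
    fin_cases i <;> simp [S8] at this ⊢ <;> linear_combination this
  have h7 : ∀ i, ![0, M 0 7, M 1 7, 0, 0, M 3 7, M 4 7, 0] i = 0 := by
    intro i
    have := e i 7
    fin_cases i <;> simp [S8] at this ⊢ <;> linear_combination this
  have z15 : M 1 5 = 0 := by
    have := e 2 5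
    simp [S8] at this
    linear_combination this
  have z16 : M 1 6 = 0 := by
    have := e 2 6
    simp [S8] at this
    linear_combination this
  have h03 : M 0 3 = 0 := by simpa [z15] using (e35 1).symm
  have h04 : M 0 4 = 0 := by simpa [z16] using (e46 1).symm
  refine ⟨e01, fun i => ?_, fun i => ?_, fun i => ?_, h03, h04, h7 1, h7 2, h7 5, h7 6⟩
  · rw [e12]; fin_cases i <;> simp [e01]
  · rw [e35, h03]
  · rw [e46, h04]

theorem unipotent_of_entries {M : Matrix (Fin 8) (Fin 8) K3} (hc : M * S8 = S8 * M) (h00 : M 0 0 = 1)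
    (h33 : M 3 3 = 1) (h44 : M 4 4 = 1) (h34 : M 3 4 = 0) (h43 : M 4 3 = 0) (h77 : M 7 7 = 1) : M ^ 9 = 1 := by
  obtain ⟨e1, e2, e5, e6, h03, h04, h07, h17, h37, h47⟩ := entries hc
  have hz : (M - 1) ^ 9 = 0 := by
    refine pow_eq_zero_of_level fun i j hij => ?_
    rw [Matrix.sub_apply]
    fin_cases i <;> fin_cases j <;> first
      | (exfalso; revert hij; decide)
      | simp [e1, e2, e5, e6, h00, h33, h44, h34, h43, h03, h04, h07, h17, h37, h47, h77]
  have hcomm : Commute (M - 1) (1 : Matrix (Fin 8) (Fin 8) K3) := Commute.one_right _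
  have h3 := add_pow_char_pow_of_commute 3 2 hcomm
  rw [sub_add_cancel] at h3
  simpa [hz] using h3

theorem wMat_mul_apply (a b c d : K3) (X : Matrix (Fin 8) (Fin 8) K3) :
    (wMat a b c d * X) 0 0 = X 0 0 ∧ (wMat a b c d * X) 7 7 = X 7 7 ∧
      (wMat a b c d * X) 3 3 = a * X 3 3 + b * X 4 3 ∧
      (wMat a b c d * X) 3 4 = a * X 3 4 + b * X 4 4 ∧ (wMat a b c d * X) 4 3 = c * X 3 3 + d * X 4 3 ∧
      (wMat a b c d * X) 4 4 = c * X 3 4 + d * X 4 4 := by
  simp [wMat, Matrix.mul_apply, Fin.sum_univ_eight]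

theorem sl_two : ∀ a b c d : K3, a * d - c * b = 1 → ∃ i j k l : K3,
    (!![1, i; 0, 1] : Matrix (Fin 2) (Fin 2) K3) * !![1, 0; j, 1] * !![1, k; 0, 1] * !![1, 0; l, 1] *
      !![a, b; c, d] = 1 := by
  decide +kernel

theorem centralizer_normalised {g r : O8} {c : K3} {E : Matrix I8 (Fin 8) K3} {P : Matrix (Fin 8) I8 K3}
    (C : Coords g r c E P) {z : O8} (hz : Commute z g) (h00 : C.coord z 0 0 = 1) (h77 : C.coord z 7 7 = 1) :
    z ∈ Om := by
  obtain ⟨e1, e2, e5, e6, h03, h04, h07, h17, h37, h47⟩ := entries (C.coord_comm hz)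
  have hdet : C.coord z 3 3 * C.coord z 4 4 - C.coord z 4 3 * C.coord z 3 4 = 1 := by
    have h := congrFun (congrFun (C.coord_form z) 3) 6
    simp [Matrix.mul_apply, Fin.sum_univ_eight, G8, e6, h03, h04] at h
    linear_combination h
  obtain ⟨i, j, k, l, hT⟩ := sl_two _ _ _ _ hdet
  obtain ⟨u₁, c₁, s₁, m₁⟩ := exists_transvection C i true
  obtain ⟨u₂, c₂, s₂, m₂⟩ := exists_transvection C j false
  obtain ⟨u₃, c₃, s₃, m₃⟩ := exists_transvection C k true
  obtain ⟨u₄, c₄, s₄, m₄⟩ := exists_transvection C l false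
  simp only [if_true, Bool.false_eq_true, if_false] at m₁ m₂ m₃ m₄
  set y := u₁ * u₂ * u₃ * u₄ * z with hy
  have hyc : Commute y g := (((c₁.mul_left c₂).mul_left c₃).mul_left c₄).mul_left hz
  have hMy : C.coord y = wMat 1 i 0 1 * wMat 1 0 j 1 * wMat 1 k 0 1 * wMat 1 0 l 1 * C.coord z := by
    rw [hy, C.coord_mul, C.coord_mul, C.coord_mul, C.coord_mul, m₁, m₂, m₃, m₄]
  have t11 := congrFun (congrFun hT 0) 0
  have t12 := congrFun (congrFun hT 0) 1
  have t21 := congrFun (congrFun hT 1) 0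
  have t22 := congrFun (congrFun hT 1) 1
  simp [Matrix.mul_apply, Fin.sum_univ_two] at t11 t12 t21 t22
  have h9 : y ^ 9 = 1 := by
    refine C.eq_one ?_
    rw [C.coord_pow]
    refine unipotent_of_entries (C.coord_comm hyc) ?_ ?_ ?_ ?_ ?_ ?_ <;>
      simp only [hMy, Matrix.mul_assoc, wMat_mul_apply, h00, h77]
    · linear_combination t11
    · linear_combination t22
    · linear_combination t12
    · linear_combination t21
  have hyO : y ∈ Om := mem_om_of_pow (by decide) h9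
  have hu : u₁ * u₂ * u₃ * u₄ ∈ Om :=
    Subgroup.mul_mem _ (Subgroup.mul_mem _ (Subgroup.mul_mem _ s₁ s₂) s₃) s₄
  have := Subgroup.mul_mem _ (Subgroup.inv_mem _ hu) hyO
  rwa [hy, inv_mul_cancel_left] at this

theorem commC {g r : O8} {c : K3} {E : Matrix I8 (Fin 8) K3} {P : Matrix (Fin 8) I8 K3}
    (C : Coords g r c E P) {z : O8} (hz : Commute z g) : z ∈ Om ∨ r * z ∈ Om := by
  have main : ∀ z : O8, Commute z g → C.coord z 0 0 = 1 → z ∈ Om ∨ r * z ∈ Om := by
    intro z hz h00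
    obtain ⟨e1, e2, e5, e6, h03, h04, h07, h17, h37, h47⟩ := entries (C.coord_comm hz)
    have h := congrFun (congrFun (C.coord_form z) 7) 7
    simp [Matrix.mul_apply, Fin.sum_univ_eight, G8, h07, h17, h37, h47] at h
    rcases (by decide : ∀ e x : K3, e ≠ 0 → x * e * x = e → x = 1 ∨ x = -1) c (C.coord z 7 7) C.ne
        (by linear_combination h) with e | e
    · exact Or.inl (centralizer_normalised C hz h00 e)
    · refine Or.inr (centralizer_normalised C (C.commute_flip.mul_left hz) ?_ ?_) <;>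
        rw [C.coord_mul, C.coord_flip, R8, Matrix.diagonal_mul] <;> simp [h00, e]
  obtain ⟨e1, e2, e5, e6, h03, h04, h07, h17, h37, h47⟩ := entries (C.coord_comm hz)
  have h02 := congrFun (congrFun (C.coord_form z) 0) 2
  simp [Matrix.mul_apply, Fin.sum_univ_eight, G8, e2] at h02
  rcases (by decide : ∀ e x : K3, e ≠ 0 → x * e * x = e → x = 1 ∨ x = -1) c (C.coord z 0 0) C.ne
      (by linear_combination h02) with e | e
  · exact main z hz e
  obtain ⟨m, hmO, hm⟩ := exists_neg_one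
  have hmc := commute_neg_one hm
  have hcm : C.coord m = -1 := by
    rw [Coords.coord, hm, Matrix.mul_neg, Matrix.mul_one, Matrix.neg_mul, C.PE]
  rcases main (m * z) ((hmc g).mul_left hz) (by rw [C.coord_mul, hcm, neg_one_mul, Matrix.neg_apply, e, neg_neg])
    with h | h
  · refine Or.inl ?_
    have := Subgroup.mul_mem _ (Subgroup.inv_mem _ hmO) h
    rwa [inv_mul_cancel_left] at this
  · refine Or.inr ?_
    have := Subgroup.mul_mem _ (Subgroup.inv_mem _ hmO) h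
    rwa [← mul_assoc r m, ← (hmc r).eq, mul_assoc, inv_mul_cancel_left] at this

/-- Coordinates for the first representative. -/
def EX1 : Matrix I8 (Fin 8) K3 :=
  (!![0, 0, 0, 0, 0, 2, 0, 0; 0, 0, 0, 0, 0, 0, 1, 0; 0, 0, 1, 0, 0, 0, 0, 1; 0, 2, 1, 0, 0, 0, 0, 0;
    0, 0, 0, 0, 1, 0, 0, 0; 0, 0, 0, 1, 0, 0, 0, 0; 0, 0, 1, 0, 0, 0, 0, 2; 1, 2, 2, 0, 0, 0, 0, 0] :
    Matrix (Fin 8) (Fin 8) K3).submatrix idx id

/-- Coordinates for the second representative. -/
def EX2 : Matrix I8 (Fin 8) K3 :=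
  (!![0, 0, 0, 0, 0, 2, 0, 0; 0, 0, 0, 0, 0, 0, 1, 0; 0, 0, 1, 0, 0, 0, 0, 1; 0, 1, 2, 0, 0, 0, 0, 0;
    0, 0, 0, 0, 1, 0, 0, 0; 0, 0, 0, 1, 0, 0, 0, 0; 0, 0, 2, 0, 0, 0, 0, 1; 1, 2, 2, 0, 0, 0, 0, 0] :
    Matrix (Fin 8) (Fin 8) K3).submatrix idx id

/-- The fixed vector of the first representative. -/
def wC1 : I8 → K3 := vec ![0, 0, 1, 0, 0, 0, 2, 0]

/-- The fixed vector of the second representative. -/
def wC2 : I8 → K3 := vec ![0, 0, 1, 0, 0, 0, 1, 0]

theorem wC1_norm : -(wC1 ⬝ᵥ B8 *ᵥ wC1) = 2 := by decide +kernel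

theorem wC2_norm : -(wC2 ⬝ᵥ B8 *ᵥ wC2) = 1 := by decide +kernel

/-- The reflection in the fixed line of the first representative. -/
noncomputable def rC1 : O8 := refl Q8 wC1 (q_ne wC1_norm (by decide))

/-- The reflection in the fixed line of the second representative. -/
noncomputable def rC2 : O8 := refl Q8 wC2 (q_ne wC2_norm (by decide))

theorem coordsC1 : Coords gC1 rC1 1 EX1 (G8' 1 * EX1ᵀ * B8) where
  ne := one_ne_zero
  EP := by decide +kernel
  PE := by decide +kernel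
  move := by show MC1 * EX1 = EX1 * S8; decide +kernel
  form := by decide +kernel
  flip := by rw [rC1, matrix_refl]; decide +kernel

theorem coordsC2 : Coords gC2 rC2 2 EX2 (G8' 2 * EX2ᵀ * B8) where
  ne := by decide
  EP := by decide +kernel
  PE := by decide +kernel
  move := by show MC2 * EX2 = EX2 * S8; decide +kernel
  form := by decide +kernel
  flip := by rw [rC2, matrix_refl]; decide +kernel

theorem exists_four (u v w x : I8 → K3) (hu : Q8 u ≠ 0) (hv : Q8 v ≠ 0) (hw : Q8 w ≠ 0) (hx : Q8 x ≠ 0)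
    (hs : sgn8 (refl Q8 u hu) * sgn8 (refl Q8 v hv) * sgn8 (refl Q8 w hw) * sgn8 (refl Q8 x hx) = 1) :
    ∃ z : O8, z ∈ Om ∧ (z.1 : Matrix I8 I8 K3) = refMat u * refMat v * refMat w * refMat x := by
  refine ⟨refl Q8 u hu * refl Q8 v hv * refl Q8 w hw * refl Q8 x hx, (mem_om_iff _).2 ⟨?_, ?_⟩, ?_⟩
  · rw [map_mul, map_mul, map_mul, hs]
  · rw [det_mul', det_mul', det_mul', det_refl, det_refl, det_refl, det_refl]; decide
  · rw [matrix_mul, matrix_mul, matrix_mul, matrix_refl, matrix_refl, matrix_refl, matrix_refl]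

theorem invC1 : ∃ z : O8, z ∈ Om ∧ z * gC1 * z⁻¹ = gC1⁻¹ := by
  obtain ⟨z, hz, hm⟩ := exists_four (vec ![0, 0, 0, 1, 0, 0, 0, 1]) (vec ![0, 1, 0, 0, 0, 1, 0, 0])
    (vec ![0, 1, 0, 0, 0, 2, 0, 0]) wC1 (q_ne (c := 1) (by decide +kernel) one_ne_zero)
    (q_ne (c := 1) (by decide +kernel) one_ne_zero) (q_ne (c := 2) (by decide +kernel) (by decide))
    (q_ne wC1_norm (by decide)) (by
      rw [sgn_refl, sgn_refl, sgn_refl, sgn_refl, q_vec (c := 1) (by decide +kernel),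
        q_vec (c := 1) (by decide +kernel), q_vec (c := 2) (by decide +kernel), q_vec wC1_norm]
      decide)
  refine ⟨z, hz, conj_eq_inv_of_matrix ?_⟩
  show MC1 * ((z.1 : Matrix I8 I8 K3) * MC1) = _
  rw [hm]
  decide +kernel

theorem invC2 : ∃ z : O8, z ∈ Om ∧ z * gC2 * z⁻¹ = gC2⁻¹ := by
  obtain ⟨z, hz, hm⟩ := exists_four (vec ![0, 0, 0, 1, 0, 0, 0, 2]) (vec ![0, 1, 0, 0, 0, 1, 0, 0])
    (vec ![0, 1, 0, 0, 0, 2, 0, 0]) wC2 (q_ne (c := 2) (by decide +kernel) (by decide))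
    (q_ne (c := 1) (by decide +kernel) one_ne_zero) (q_ne (c := 2) (by decide +kernel) (by decide))
    (q_ne wC2_norm (by decide)) (by
      rw [sgn_refl, sgn_refl, sgn_refl, sgn_refl, q_vec (c := 2) (by decide +kernel),
        q_vec (c := 1) (by decide +kernel), q_vec (c := 2) (by decide +kernel), q_vec wC2_norm]
      decide)
  refine ⟨z, hz, conj_eq_inv_of_matrix ?_⟩
  show MC2 * ((z.1 : Matrix I8 I8 K3) * MC2) = _
  rw [hm]
  decide +kernel

end Cfsg.Agent.UnipEight
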