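import Mathlib
import Cfsg.Agent.Lib.AutPOmega.ExtensionUnique

/-!
An action of the symmetric group of degree four on thirteen points with prescribed fixed points of a
Sylow two-subgroup: a subgroup of order six has seven orbits.
-/

set_option autoImplicit false

namespace Cfsg.Agent.UnipEight

open Equiv (Perm)

abbrev P4 := Perm (Fin 4)

def pA : P4 := Equiv.swap 0 1

def pB : P4 := Equiv.swap 2 3

def pE : P4 := Equiv.swap 0 2 * Equiv.swap 1 3

def pZ : P4 := Equiv.swap 0 1 * Equiv.swap 1 2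

theorem normalise : ∀ a e : P4, a * a = 1 → e * e = 1 → a * (e * a * e⁻¹) = e * a * e⁻¹ * a →
    a ≠ 1 → a * (e * a * e⁻¹) ≠ 1 →
    (∃ s : P4, s * a * s⁻¹ = pA ∧ s * (e * a * e⁻¹) * s⁻¹ = pB ∧
        ∃ k ∈ [1, pA, pB, pA * pB], s * e * s⁻¹ = k * pE) ∨
      ∃ s : P4, s * a * s⁻¹ = a * (e * a * e⁻¹) := by
  decide +kernel

theorem six_element : ∀ h : P4, h ^ 6 = 1 → h = 1 ∨ (∃ s : P4, h = s * pA * s⁻¹) ∨
    (∃ s : P4, h = s * pZ * s⁻¹) ∨ ∃ s : P4, h = s * (pA * pB) * s⁻¹ := by
  decide +kernel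

theorem out_square : pZ * pZ * pZ = 1 ∧ (pA * pB) * pE = pE * (pA * pB) := by decide +kernel

theorem mem_of_three : ∀ z : P4, z ^ 3 = 1 → z = 1 ∨ ∃ s : P4, z = s * pZ * s⁻¹ := by decide +kernel

theorem dt_of_conj : ∀ g : P4, g * (pA * pB) * g⁻¹ = pA * pB ∨ g * (pA * pB) * g⁻¹ = pE ∨
    (pA * pB) * (g * (pA * pB) * g⁻¹) = pE := by
  decide +kernel

theorem centraliser_delta : ∀ g : P4, g * (pA * pB) * g⁻¹ = pA * pB →
    ∃ k ∈ [1, pA, pB, pA * pB], g = k ∨ g = k * pE := by
  decide +kernel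

theorem delta_commutes : ∀ g h : P4, (pA * pB) * (g * (pA * pB) * g⁻¹) = g * (pA * pB) * g⁻¹ * (pA * pB) ∧
    (h = g → g * pA * g⁻¹ * (pA * pB) = (pA * pB) * (g * pA * g⁻¹) → g * (pA * pB) * g⁻¹ = pA * pB) := by
  decide +kernel

theorem generated : ∀ g : P4, g * (pA * pB) * g⁻¹ ≠ pA * pB →
    ∃ c ∈ [1, pA, pB, pA * pB, pE, pA * pE, pB * pE, pA * pB * pE],
      ∃ d ∈ [1, pA, pB, pA * pB, pE, pA * pE, pB * pE, pA * pB * pE], c * g * d = pZ := by
  decide +kernel

theorem generated_all : ∀ h : P4, ∃ c ∈ [1, pA, pB, pA * pB, pE, pA * pE, pB * pE, pA * pB * pE],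
    h = c ∨ h = c * pZ ∨ h = c * (pZ * pZ) := by
  decide +kernel

theorem delta_of_z : ∃ s t : P4, pA * pB = s * pZ * s⁻¹ * (t * pZ * t⁻¹) := by decide +kernel

theorem conj_mem_K : ∀ g : P4, g * pZ * g⁻¹ ∉ [1, pA, pB, pA * pB] := by decide +kernel

theorem no_fixed : ∀ (s : P4) (i : Fin 4), (s * (pA * pB) * s⁻¹) i ≠ i := by decide +kernel

theorem value_sum : ∀ i : Fin 4, ∑ g ∈ Finset.univ.filter (fun g : P4 => g i = i),
    (if g = 1 then 13 else if Equiv.Perm.sign g = 1 then 4 else 7 : ℕ) = 42 := by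
  decide +kernel

/-- The elements of a subgroup of order six fix a common point, and they are all the elements fixing it. -/
theorem exists_point (R : Subgroup P4) (hR : Nat.card R = 6) : ∃ i, ∀ g, g ∈ R ↔ g i = i := by
  obtain ⟨i, hi⟩ := Cfsg.Agent.AutPOmega.exists_fixed_of_card_six R hR
  have hst : Nat.card (MulAction.stabilizer P4 i) = 6 := by
    rw [Nat.card_congr (Equiv.subtypeEquivRight fun h => MulAction.mem_stabilizer_iff), Nat.card_eq_fintype_card]
    clear hi
    revert i
    decide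
  have := Subgroup.eq_of_le_of_card_ge (H := R) (K := MulAction.stabilizer P4 i)
    (fun h hh => MulAction.mem_stabilizer_iff.2 (hi h hh)) (by rw [hst, hR])
  exact ⟨i, fun g => by rw [this, MulAction.mem_stabilizer_iff]; rfl⟩

theorem apply_inv' {Y : Type*} (f : Perm Y) (x : Y) : f (f⁻¹ x) = x := Equiv.apply_symm_apply f x

theorem inv_apply' {Y : Type*} (f : Perm Y) (x : Y) : f⁻¹ (f x) = x := Equiv.symm_apply_apply f x

variable {X : Type*} [Finite X] {G : Type*} [Group G]

theorem fix_card_conj (φ : G →* Perm X) (s g : G) :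
    Nat.card {x // φ (s * g * s⁻¹) x = x} = Nat.card {x // φ g x = x} := by
  refine Nat.card_congr (Equiv.subtypeEquiv (φ s)⁻¹ fun x => ?_)
  rw [map_mul, map_mul, map_inv, Equiv.Perm.mul_apply, Equiv.Perm.mul_apply, Equiv.Perm.eq_inv_iff_eq.symm]

omit [Finite X] in
theorem fix_mul (φ : G →* Perm X) {g h : G} {x : X} (hg : φ g x = x) (hh : φ h x = x) : φ (g * h) x = x := by
  rw [map_mul, Equiv.Perm.mul_apply, hh, hg]

omit [Finite X] in
theorem fix_inv (φ : G →* Perm X) {g : G} {x : X} (hg : φ g x = x) : φ g⁻¹ x = x := by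
  rw [map_inv, Equiv.Perm.inv_eq_iff_eq, hg]

variable (φ : P4 →* Perm X) (hX : Nat.card X = 13) (hA : Nat.card {x // φ pA x = x} = 7)
  (hD : Nat.card {x // φ (pA * pB) x = x} = 5) (hDA : ∀ x, φ (pA * pB) x = x → φ pA x = x)
  (hE : Nat.card {x // φ (pA * pB) x = x ∧ φ pE x = x} = 3)

include hDA in
omit [Finite X] in
theorem fix_K {x : X} (h : φ (pA * pB) x = x) : ∀ k ∈ [1, pA, pB, pA * pB], φ k x = x := by
  have hb : φ pB x = x := by
    have e : pA⁻¹ * (pA * pB) = pB := inv_mul_cancel_left _ _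
    rw [← e]
    exact fix_mul φ (fix_inv φ (hDA x h)) h
  intro k hk
  simp only [List.mem_cons, List.not_mem_nil, or_false] at hk
  rcases hk with rfl | rfl | rfl | rfl
  · rw [map_one]; rfl
  · exact hDA x h
  · exact hb
  · exact h

include hDA in
omit [Finite X] in
/-- A point fixed by the Sylow subgroup is fixed by everything. -/
theorem fix_all {x : X} (h : φ (pA * pB) x = x) (he : φ pE x = x) : ∀ g, φ g x = x := by
  have hk := fix_K φ hDA h
  have hk' : ∀ c ∈ [1, pA, pB, pA * pB, pE, pA * pE, pB * pE, pA * pB * pE], φ c x = x := by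
    intro c hc
    simp only [List.mem_cons, List.not_mem_nil, or_false] at hc
    rcases hc with rfl | rfl | rfl | rfl | rfl | rfl | rfl | rfl
    · rw [map_one]; rfl
    · exact hDA x h
    · exact hk _ (by simp)
    · exact h
    · exact he
    · exact fix_mul φ (hDA x h) he
    · exact fix_mul φ (hk _ (by simp)) he
    · exact fix_mul φ h he
  have hz : φ pZ x = x := by
    set y := φ pZ x with hy
    have hdy : φ (pA * pB) y = y := by
      have hdt : φ (pZ⁻¹ * (pA * pB) * pZ) x = x := by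
        rcases dt_of_conj pZ⁻¹ with e | e | e
        · rw [inv_inv] at e; rw [e]; exact h
        · rw [inv_inv] at e; rw [e]; exact he
        · rw [inv_inv] at e
          rw [← inv_mul_cancel_left (pA * pB) (pZ⁻¹ * (pA * pB) * pZ), e]
          exact fix_mul φ (fix_inv φ h) he
      have h2 := congrArg (φ pZ) hdt
      simp only [map_mul, Equiv.Perm.mul_apply, map_inv, apply_inv', ← hy] at h2
      rwa [map_mul, Equiv.Perm.mul_apply]
    have hay : φ (pZ⁻¹ * pA * pZ) x = x := by
      rw [map_mul, map_mul, Equiv.Perm.mul_apply, Equiv.Perm.mul_apply, ← hy, hDA y hdy, hy, map_inv,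
        inv_apply']
    have hne : (pZ⁻¹ * pA * pZ) * (pA * pB) * (pZ⁻¹ * pA * pZ)⁻¹ ≠ pA * pB := by decide +kernel
    obtain ⟨c, hc, d, hd, e⟩ := generated _ hne
    rw [hy, ← e]
    exact fix_mul φ (fix_mul φ (hk' c hc) hay) (hk' d hd)
  intro g
  obtain ⟨c, hc, rfl | rfl | rfl⟩ := generated_all g
  · exact hk' _ hc
  · exact fix_mul φ (hk' _ hc) hz
  · exact fix_mul φ (hk' _ hc) (fix_mul φ hz hz)

include hDA in
omit [Finite X] in
/-- The stabiliser of a point fixed by `pA * pB` and moved by `pE`. -/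
theorem stab_eq {x : X} (h : φ (pA * pB) x = x) (he : φ pE x ≠ x) {g : P4} (hg : φ g x = x) :
    g ∈ [1, pA, pB, pA * pB] := by
  have hk := fix_K φ hDA h
  rcases dt_of_conj g with e | e | e
  · obtain ⟨k, hkm, rfl | rfl⟩ := centraliser_delta g e
    · exact hkm
    · refine absurd ?_ he
      rw [← inv_mul_cancel_left k pE]
      exact fix_mul φ (fix_inv φ (hk k hkm)) hg
  · exact absurd (e ▸ fix_mul φ (fix_mul φ hg h) (fix_inv φ hg)) he
  · exact absurd (e ▸ fix_mul φ h (fix_mul φ (fix_mul φ hg h) (fix_inv φ hg))) he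

include hX hD hDA hE in
theorem fix_three : Nat.card {x // φ pZ x = x} = 4 := by
  classical
  have := Fintype.ofFinite X
  obtain ⟨x₀, hx₀, hx₀'⟩ : ∃ x, φ (pA * pB) x = x ∧ φ pE x ≠ x := by
    by_contra hc
    push Not at hc
    have : Nat.card {x // φ (pA * pB) x = x ∧ φ pE x = x} = Nat.card {x // φ (pA * pB) x = x} :=
      Nat.card_congr (Equiv.subtypeEquivRight fun x => ⟨fun h => h.1, fun h => ⟨h, hc x h⟩⟩)
    rw [this] at hE
    omega
  let U : Finset X := Finset.univ.filter fun x => φ (pA * pB) x = x ∧ φ pE x = x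
  have hU : U.card = 3 := by rw [← hE, Nat.card_eq_fintype_card, Fintype.card_subtype]
  have hUfix : ∀ x ∈ U, ∀ g, φ g x = x := fun x hx => by
    rw [Finset.mem_filter] at hx
    exact fix_all φ hDA hx.2.1 hx.2.2
  let O : Finset X := Finset.univ.image fun g : P4 => φ g x₀
  have hstab : ∀ g, φ g x₀ = x₀ ↔ g ∈ [1, pA, pB, pA * pB] :=
    fun g => ⟨stab_eq φ hDA hx₀ hx₀', fix_K φ hDA hx₀ g⟩
  have hO : O.card = 6 := by
    have hfib : ∀ y ∈ O, (Finset.univ.filter fun g : P4 => φ g x₀ = y).card = 4 := by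
      intro y hy
      obtain ⟨g, -, rfl⟩ := Finset.mem_image.1 hy
      have : (Finset.univ.filter fun k : P4 => φ k x₀ = φ g x₀) =
          ([1, pA, pB, pA * pB].toFinset).image fun k => g * k := by
        ext k
        simp only [Finset.mem_filter, Finset.mem_univ, true_and, Finset.mem_image, List.mem_toFinset]
        constructor
        · intro hk
          refine ⟨g⁻¹ * k, (hstab _).1 ?_, mul_inv_cancel_left _ _⟩
          rw [map_mul, Equiv.Perm.mul_apply, hk, map_inv, inv_apply']
        · rintro ⟨l, hl, rfl⟩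
          rw [map_mul, Equiv.Perm.mul_apply, (hstab l).2 hl]
      rw [this, Finset.card_image_of_injective _ (mul_right_injective g)]
      decide +kernel
    have := Finset.card_eq_sum_card_fiberwise (f := fun g : P4 => φ g x₀) (s := Finset.univ) (t := O)
      fun g _ => Finset.mem_image_of_mem _ (Finset.mem_univ g)
    rw [Finset.sum_congr rfl hfib, Finset.sum_const, smul_eq_mul, Finset.card_univ, Fintype.card_perm,
      Fintype.card_fin] at this
    simp [Nat.factorial] at this
    omega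
  have hdisj : Disjoint U O := by
    rw [Finset.disjoint_left]
    intro x hx hxO
    obtain ⟨g, -, rfl⟩ := Finset.mem_image.1 hxO
    refine hx₀' ?_
    have := hUfix _ hx (g * pE * g⁻¹)
    rw [map_mul, map_mul, Equiv.Perm.mul_apply, Equiv.Perm.mul_apply, map_inv,
      inv_apply'] at this
    exact (φ g).injective this
  let S : Finset X := (U ∪ O)ᶜ
  have hS : S.card = 4 := by
    rw [Finset.card_compl, Finset.card_union_of_disjoint hdisj, hU, hO, ← Nat.card_eq_fintype_card, hX]
  have hSinv : ∀ g, ∀ x ∈ S, φ g x ∈ S := by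
    intro g x hx
    simp only [S, Finset.mem_compl, Finset.mem_union, not_or] at hx ⊢
    refine ⟨fun h => hx.1 ?_, fun h => hx.2 ?_⟩
    · have := hUfix _ h g⁻¹
      rw [map_inv, inv_apply'] at this
      rwa [this]
    · obtain ⟨k, -, hk⟩ := Finset.mem_image.1 h
      exact Finset.mem_image.2 ⟨g⁻¹ * k, Finset.mem_univ _, by
        rw [map_mul, Equiv.Perm.mul_apply, hk, map_inv, inv_apply']⟩
  let σ : Perm {x // x ∈ S} := (φ pZ).subtypePerm fun x => ⟨fun h => by
      have := hSinv pZ⁻¹ _ h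
      rwa [map_inv, inv_apply'] at this, hSinv pZ x⟩
  have hσ3 : σ ^ 3 = 1 := by
    refine Equiv.ext fun x => Subtype.ext ?_
    have h3 : φ pZ (φ pZ (φ pZ x.1)) = x.1 := by
      rw [← Equiv.Perm.mul_apply, ← map_mul, ← Equiv.Perm.mul_apply, ← map_mul, out_square.1, map_one]
      rfl
    show φ pZ (φ pZ (φ pZ x.1)) = x.1
    exact h3
  have hmod : ∀ (σ : Perm (Fin 4)), σ ^ 3 = 1 → (Finset.univ.filter fun x => σ x = x).card = 1 ∨ σ = 1 := by
    decide +kernel
  have hS' : Fintype.card {x // x ∈ S} = 4 := by rw [Fintype.card_coe, hS]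
  let eS := Fintype.equivFinOfCardEq hS'
  have hfixS : (S.filter fun x => φ pZ x = x).card = 1 := by
    rcases hmod (eS.permCongrHom σ) (by rw [← map_pow, hσ3, map_one]) with h | h
    · rw [← h]
      refine Finset.card_bij (fun x hx => eS ⟨x, (Finset.mem_filter.1 hx).1⟩) (fun x hx => ?_)
        (fun x hx y hy e => congrArg Subtype.val (eS.injective e)) (fun y hy => ?_)
      · simp only [Finset.mem_filter, Finset.mem_univ, true_and]
        simpa [Equiv.permCongrHom, Equiv.permCongr_apply, σ, Subtype.ext_iff] using (Finset.mem_filter.1 hx).2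
      · simp only [Finset.mem_filter, Finset.mem_univ, true_and] at hy
        refine ⟨(eS.symm y).1, Finset.mem_filter.2 ⟨(eS.symm y).2, ?_⟩, eS.apply_symm_apply y⟩
        have := congrArg eS.symm hy
        simpa [Equiv.permCongrHom, Equiv.permCongr_apply, σ, Subtype.ext_iff] using this
    · exfalso
      have hσ1 : σ = 1 := eS.permCongrHom.injective (h.trans (map_one _).symm)
      have hz : ∀ g, ∀ x ∈ S, φ (g * pZ * g⁻¹) x = x := fun g x hx => by
        rw [map_mul, map_mul, Equiv.Perm.mul_apply, Equiv.Perm.mul_apply]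
        have := congrArg (fun p : Perm {x // x ∈ S} => (p ⟨φ g⁻¹ x, hSinv _ _ hx⟩).1) hσ1
        simp only [Equiv.Perm.one_apply] at this
        replace this : φ pZ (φ g⁻¹ x) = φ g⁻¹ x := this
        rw [map_inv] at this ⊢
        rw [this, apply_inv']
      obtain ⟨s, t, hst⟩ := delta_of_z
      obtain ⟨x, hx⟩ := Finset.card_pos.1 (show 0 < S.card by omega)
      have hd : φ (pA * pB) x = x := by rw [hst]; exact fix_mul φ (hz s x hx) (hz t x hx)
      simp only [S, Finset.mem_compl, Finset.mem_union, not_or] at hx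
      have hxe : φ pE x ≠ x := fun he => hx.1 (Finset.mem_filter.2 ⟨Finset.mem_univ _, hd, he⟩)
      have := stab_eq φ hDA hd hxe (hz 1 x (by simp [S, hx.1, hx.2]))
      exact conj_mem_K 1 this
  rw [Nat.card_eq_fintype_card, Fintype.card_subtype]
  have hsplit : (Finset.univ.filter fun x => φ pZ x = x) = U ∪ S.filter fun x => φ pZ x = x := by
    ext x
    simp only [Finset.mem_filter, Finset.mem_univ, true_and, Finset.mem_union]
    refine ⟨fun h => ?_, fun h => h.elim (fun h => hUfix x h _) fun h => h.2⟩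
    by_cases hxU : x ∈ U
    · exact Or.inl hxU
    refine Or.inr ⟨?_, h⟩
    simp only [S, Finset.mem_compl, Finset.mem_union, not_or]
    refine ⟨hxU, fun hxO => ?_⟩
    obtain ⟨g, -, rfl⟩ := Finset.mem_image.1 hxO
    refine conj_mem_K g⁻¹ ((hstab _).1 ?_)
    rw [inv_inv, map_mul, map_mul, Equiv.Perm.mul_apply, Equiv.Perm.mul_apply, h, map_inv,
      inv_apply']
  rw [hsplit, Finset.card_union_of_disjoint, hU, hfixS]
  rw [Finset.disjoint_left]
  intro x hx hx'
  exact Finset.mem_compl.1 (Finset.mem_filter.1 hx').1 (Finset.mem_union_left _ hx)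

include hX hA hD hDA hE in
theorem orbits_seven (R : Subgroup P4) (hR : Nat.card R = 6) :
    letI := MulAction.compHom X (φ.comp R.subtype)
    Nat.card (MulAction.orbitRel.Quotient R X) = 7 := by
  classical
  obtain ⟨i, hi⟩ := exists_point R hR
  let := MulAction.compHom X (φ.comp R.subtype)
  have := Fintype.ofFinite X
  have hB := MulAction.sum_card_fixedBy_eq_card_orbits_mul_card_group R X
  rw [Nat.card_eq_fintype_card] at hR
  rw [hR] at hB
  have hF : ∀ g : R, Fintype.card (MulAction.fixedBy X g) = Nat.card {x // φ g.1 x = x} := fun g => by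
    rw [← Nat.card_eq_fintype_card]; rfl
  simp only [hF] at hB
  have hval : ∀ g : R, Nat.card {x // φ g.1 x = x} =
      if g.1 = 1 then 13 else if Equiv.Perm.sign g.1 = 1 then 4 else 7 := by
    intro g
    have h6 : g.1 ^ 6 = 1 := by
      have h := pow_card_eq_one (x := g)
      rw [hR] at h
      exact congrArg Subtype.val h
    by_cases h1 : g.1 = 1
    · rw [if_pos h1, h1]
      rw [Nat.card_congr (Equiv.subtypeUnivEquiv fun x => by simp), hX]
    rw [if_neg h1]
    rcases six_element g.1 h6 with e | ⟨s, e⟩ | ⟨s, e⟩ | ⟨s, e⟩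
    · exact absurd e h1
    · rw [e, fix_card_conj, hA, if_neg]
      rw [map_mul, map_mul, mul_comm (Equiv.Perm.sign s), map_inv, mul_inv_cancel_right]
      decide
    · rw [e, fix_card_conj, fix_three φ hX hD hDA hE, if_pos]
      rw [map_mul, map_mul, mul_comm (Equiv.Perm.sign s), map_inv, mul_inv_cancel_right]
      decide
    · exfalso
      exact no_fixed s i (e ▸ (hi g.1).1 g.2)
  simp only [hval] at hB
  rw [← Finset.sum_subtype (Finset.univ.filter fun g : P4 => g i = i) (fun g => by simp [hi g])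
    (fun g : P4 => if g = 1 then 13 else if Equiv.Perm.sign g = 1 then 4 else 7), value_sum i] at hB
  rw [Nat.card_eq_fintype_card]
  change 42 = Fintype.card (MulAction.orbitRel.Quotient R X) * 6 at hB
  omega

end Cfsg.Agent.UnipEight
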