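import Cfsg.Agent.Lib.Components.GenFitting
import Cfsg.Prelude.Def_KGroupFacts

/-!
Conjugacy classes of subgroups of order three as a set acted on by the outer automorphism group, and the orbits
of an extension.
-/

set_option autoImplicit false

namespace Cfsg.Agent.UnipEight

open scoped Pointwise

variable {T : Type*} [Group T]

/-- Subgroups of order three. -/
abbrev Sub3 (T : Type*) [Group T] := {X : Subgroup T // Nat.card X = 3}

/-- The image of a subgroup of order three under an automorphism. -/
def moveSub (β : MulAut T) (X : Sub3 T) : Sub3 T :=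
  ⟨X.1.map β.toMonoidHom, by rw [Subgroup.card_map_of_injective β.injective]; exact X.2⟩

theorem moveSub_mul (β γ : MulAut T) (X : Sub3 T) : moveSub (β * γ) X = moveSub β (moveSub γ X) :=
  Subtype.ext (by simp only [moveSub, Subgroup.map_map]; rfl)

theorem moveSub_one (X : Sub3 T) : moveSub 1 X = X :=
  Subtype.ext (by simp only [moveSub]; exact Subgroup.map_id X.1)

/-- Conjugacy of subgroups of order three. -/
def subSetoid (T : Type*) [Group T] : Setoid (Sub3 T) where
  r X Y := ∃ t : T, moveSub (MulAut.conj t) X = Y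
  iseqv := {
    refl := fun X => ⟨1, by rw [map_one, moveSub_one]⟩
    symm := by
      rintro X Y ⟨t, rfl⟩
      exact ⟨t⁻¹, by rw [← moveSub_mul, ← map_mul, inv_mul_cancel, map_one, moveSub_one]⟩
    trans := by
      rintro X Y Z ⟨t, rfl⟩ ⟨s, rfl⟩
      exact ⟨s * t, by rw [map_mul, moveSub_mul]⟩ }

/-- The classes. -/
abbrev SubClass (T : Type*) [Group T] := Quotient (subSetoid T)

/-- The class of a subgroup. -/
def toClass (X : Sub3 T) : SubClass T := Quotient.mk (subSetoid T) X

theorem toClass_eq {X Y : Sub3 T} : toClass X = toClass Y ↔ ∃ t : T, moveSub (MulAut.conj t) X = Y :=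
  Quotient.eq

theorem toClass_surjective : Function.Surjective (toClass (T := T)) := Quotient.mk_surjective

theorem conj_comm (β : MulAut T) (t : T) : β * MulAut.conj t = MulAut.conj (β t) * β :=
  MulEquiv.ext fun x => by simp [MulAut.mul_apply, MulAut.conj_apply]

/-- An automorphism permutes the classes. -/
def moveClass (β : MulAut T) : SubClass T → SubClass T :=
  Quotient.map (moveSub β) fun X Y => by
    rintro ⟨t, rfl⟩
    exact ⟨β t, by rw [← moveSub_mul, ← moveSub_mul, conj_comm]⟩

theorem moveClass_toClass (β : MulAut T) (X : Sub3 T) : moveClass β (toClass X) = toClass (moveSub β X) := rfl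

/-- The permutation representation of the automorphism group. -/
def autClass : MulAut T →* Equiv.Perm (SubClass T) where
  toFun β :=
    { toFun := moveClass β
      invFun := moveClass β⁻¹
      left_inv := fun x => by
        obtain ⟨X, rfl⟩ := toClass_surjective x
        rw [moveClass_toClass, moveClass_toClass, ← moveSub_mul, inv_mul_cancel, moveSub_one]
      right_inv := fun x => by
        obtain ⟨X, rfl⟩ := toClass_surjective x
        rw [moveClass_toClass, moveClass_toClass, ← moveSub_mul, mul_inv_cancel, moveSub_one] }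
  map_one' := Equiv.ext fun x => by
    obtain ⟨X, rfl⟩ := toClass_surjective x
    show moveClass 1 (toClass X) = _
    rw [moveClass_toClass, moveSub_one]
    rfl
  map_mul' β γ := Equiv.ext fun x => by
    obtain ⟨X, rfl⟩ := toClass_surjective x
    show moveClass (β * γ) (toClass X) = moveClass β (moveClass γ (toClass X))
    rw [moveClass_toClass, moveClass_toClass, moveClass_toClass, moveSub_mul]

/-- The permutation representation of the outer automorphism group. -/
noncomputable def outClass : Out T →* Equiv.Perm (SubClass T) :=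
  QuotientGroup.lift (Inn T) autClass (by
    rintro _ ⟨t, rfl⟩
    refine Equiv.ext fun x => ?_
    obtain ⟨X, rfl⟩ := toClass_surjective x
    show toClass (moveSub (MulAut.conj t) X) = toClass X
    exact (toClass_eq.2 ⟨t, rfl⟩).symm)

theorem outClass_mk (β : MulAut T) (X : Sub3 T) :
    outClass (QuotientGroup.mk β : Out T) (toClass X) = toClass (moveSub β X) := rfl

/-- Representatives of the classes, from their number. -/
theorem exists_reps_of_card {n : ℕ} (h : Nat.card (SubClass T) = n) (hn : n ≠ 0) :
    ∃ Y : Fin n → Subgroup T, (∀ i, Nat.card (Y i) = 3) ∧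
      (∀ i j, (∃ g : T, (Y i).map (MulAut.conj g).toMonoidHom = Y j) → i = j) ∧
      ∀ X : Subgroup T, Nat.card X = 3 → ∃ i, ∃ g : T, X.map (MulAut.conj g).toMonoidHom = Y i := by
  have := Nat.finite_of_card_ne_zero (h ▸ hn)
  have := Fintype.ofFinite (SubClass T)
  let e : SubClass T ≃ Fin n := Fintype.equivFinOfCardEq (by rw [← Nat.card_eq_fintype_card, h])
  choose rep hrep using fun i => toClass_surjective (e.symm i)
  refine ⟨fun i => (rep i).1, fun i => (rep i).2, ?_, ?_⟩
  · rintro i j ⟨g, hg⟩
    have h1 : toClass (rep i) = toClass (rep j) := toClass_eq.2 ⟨g, Subtype.ext hg⟩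
    rw [hrep, hrep] at h1
    exact e.symm.injective h1
  · intro X hX
    obtain ⟨g, hg⟩ := toClass_eq.1
      (show toClass ⟨X, hX⟩ = toClass (rep (e (toClass ⟨X, hX⟩))) by rw [hrep, e.symm_apply_apply])
    exact ⟨_, g, congrArg Subtype.val hg⟩

/-- Representatives of the orbits of an extension. -/
theorem exists_reps_extension {n : ℕ} (hn : n ≠ 0) {m : ℕ}
    (horb : ∀ R : Subgroup (Out T), Nat.card R = m →
      letI := MulAction.compHom (SubClass T) (outClass.comp R.subtype)
      Nat.card (MulAction.orbitRel.Quotient R (SubClass T)) = n)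
    {G : Type*} [Group G] [Finite G] (L : Subgroup G) [L.Normal] (hL : L = generalizedFittingSubgroup G)
    (hZ : Subgroup.center T = ⊥) (e : L ≃* T) (hm : Nat.card (G ⧸ L) = m) :
    ∃ Y : Fin n → Subgroup G, (∀ i, Y i ≤ L ∧ Nat.card (Y i) = 3) ∧
      (∀ i j, (∃ g : G, (Y i).map (MulAut.conj g).toMonoidHom = Y j) → i = j) ∧
      ∀ X : Subgroup G, X ≤ L → Nat.card X = 3 → ∃ i, ∃ g : G, X.map (MulAut.conj g).toMonoidHom = Y i := by
  classical
  let ψ : G →* MulAut T := (MulAut.congr e).toMonoidHom.comp MulAut.conjNormal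
  have hψ : ∀ g x, ψ g x = e (MulAut.conjNormal g (e.symm x)) := fun _ _ => rfl
  have hconj : ∀ y : L, ψ y = MulAut.conj (e y) := fun y => MulEquiv.ext fun x => by
    rw [hψ, MulAut.conj_apply, show MulAut.conjNormal (y : G) (e.symm x) = y * e.symm x * y⁻¹ from
      Subtype.ext (by simp [MulAut.conjNormal_apply]), map_mul, map_mul, map_inv, e.apply_symm_apply]
  let χ : G →* Out T := (QuotientGroup.mk' (Inn T)).comp ψ
  have hker : χ.ker = L := by
    ext g
    rw [MonoidHom.mem_ker]
    refine ⟨fun h => ?_, fun h => ?_⟩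
    · obtain ⟨t, ht⟩ : ψ g ∈ Inn T := (QuotientGroup.eq_one_iff _).1 h
      obtain ⟨y, rfl⟩ := e.surjective t
      have hc : (y : G)⁻¹ * g ∈ Subgroup.centralizer (L : Set G) := by
        rw [Subgroup.mem_centralizer_iff]
        intro z hz
        have h1 : ψ ((y : G)⁻¹ * g) = 1 := by rw [map_mul, map_inv, hconj, ← ht, inv_mul_cancel]
        have h2 := DFunLike.congr_fun h1 (e ⟨z, hz⟩)
        rw [hψ, e.symm_apply_apply, MulAut.one_apply, e.apply_eq_iff_eq] at h2
        have h3 : (y : G)⁻¹ * g * z * ((y : G)⁻¹ * g)⁻¹ = z := by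
          simpa [MulAut.conjNormal_apply, mul_assoc] using congrArg Subtype.val h2
        exact (mul_inv_eq_iff_eq_mul.1 h3).symm
      have hyL : (y : G)⁻¹ * g ∈ L := by
        have key : ∀ K : Subgroup G, K = generalizedFittingSubgroup G →
            Subgroup.centralizer (K : Set G) ≤ K := by
          rintro K rfl
          exact Components.centralizer_generalizedFittingSubgroup_le
        exact key L hL hc
      have := L.mul_mem y.2 hyL
      rwa [mul_inv_cancel_left] at this
    · exact (QuotientGroup.eq_one_iff _).2 (show ψ g ∈ Inn T from (hconj ⟨g, h⟩).symm ▸ ⟨_, rfl⟩)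
  have hR : Nat.card χ.range = m := by
    rw [← Nat.card_congr (QuotientGroup.quotientKerEquivRange χ).toEquiv, hker, hm]
  let := MulAction.compHom (SubClass T) (outClass.comp χ.range.subtype)
  have horb' : Nat.card (MulAction.orbitRel.Quotient χ.range (SubClass T)) = n := horb _ hR
  let Orb := MulAction.orbitRel.Quotient χ.range (SubClass T)
  have : Finite Orb := Nat.finite_of_card_ne_zero (horb' ▸ hn)
  have := Fintype.ofFinite Orb
  let eo : Orb ≃ Fin n := Fintype.equivFinOfCardEq (by rw [← Nat.card_eq_fintype_card]; exact horb')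
  choose rep hrep using fun i : Fin n => toClass_surjective (Quotient.out (eo.symm i))
  let pb : Subgroup T → Subgroup G := fun S => (S.map e.symm.toMonoidHom).map L.subtype
  have hpbL : ∀ S, pb S ≤ L := by
    intro S
    rintro _ ⟨l, -, rfl⟩
    exact l.2
  have hpbmap : ∀ g S, (pb S).map (MulAut.conj g).toMonoidHom = pb (S.map (ψ g).toMonoidHom) := by
    intro g S
    simp only [pb, Subgroup.map_map]
    congr 1
    refine MonoidHom.ext fun x => ?_
    show g * (e.symm x : G) * g⁻¹ = ((e.symm (ψ g x) : L) : G)
    rw [hψ, e.symm_apply_apply]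
    simp [MulAut.conjNormal_apply]
  have hpbinj : Function.Injective pb := fun S S' h =>
    Subgroup.map_injective e.symm.injective (Subgroup.map_injective L.subtype_injective h)
  have hpbcard : ∀ S : Subgroup T, Nat.card (pb S) = Nat.card S := fun S => by
    rw [Subgroup.card_map_of_injective L.subtype_injective, Subgroup.card_map_of_injective e.symm.injective]
  have hpbsurj : ∀ X ≤ L, ∃ S, pb S = X := fun X hX =>
    ⟨(X.subgroupOf L).map e.toMonoidHom, by
      simp only [pb]
      rw [Subgroup.map_map _ e.symm.toMonoidHom, show e.symm.toMonoidHom.comp e.toMonoidHom = MonoidHom.id L from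
        MonoidHom.ext fun x => e.symm_apply_apply x]
      rw [Subgroup.map_id, Subgroup.subgroupOf_map_subtype, inf_eq_left.2 hX]⟩
  refine ⟨fun i => pb (rep i).1, fun i => ⟨hpbL _, (hpbcard _).trans (rep i).2⟩, ?_, ?_⟩
  · rintro i j ⟨g, hg⟩
    rw [hpbmap] at hg
    have h1 : moveSub (ψ g) (rep i) = rep j := Subtype.ext (hpbinj hg)
    have h2 : (⟨χ g, g, rfl⟩ : χ.range) • Quotient.out (eo.symm i) = Quotient.out (eo.symm j) := by
      rw [← hrep, ← hrep]
      show outClass (χ g) (toClass (rep i)) = _
      exact (outClass_mk _ _).trans (congrArg toClass h1)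
    have h4 : (Quotient.mk'' (Quotient.out (eo.symm i)) : Orb) = Quotient.mk'' (Quotient.out (eo.symm j)) :=
      Quotient.sound' (MulAction.orbitRel_apply.2 ⟨(⟨χ g, g, rfl⟩ : χ.range)⁻¹, by
        rw [← h2]; exact inv_smul_smul _ _⟩)
    rw [Quotient.out_eq', Quotient.out_eq'] at h4
    exact eo.symm.injective h4
  · intro X hX hX3
    obtain ⟨S, rfl⟩ := hpbsurj X hX
    let x : SubClass T := toClass ⟨S, (hpbcard S).symm.trans hX3⟩
    refine ⟨eo (Quotient.mk'' x), ?_⟩
    set i := eo (Quotient.mk'' x) with hi
    have h1 : (Quotient.mk'' (Quotient.out (eo.symm i)) : Orb) = Quotient.mk'' x := by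
      rw [Quotient.out_eq', hi, eo.symm_apply_apply]
    obtain ⟨⟨_, g, rfl⟩, hg⟩ := MulAction.orbitRel_apply.1 (Quotient.exact' h1)
    rw [← hrep] at hg
    change outClass (χ g) x = _ at hg
    obtain ⟨t, ht⟩ := toClass_eq.1 ((outClass_mk (ψ g) _).symm.trans hg)
    obtain ⟨y, rfl⟩ := e.surjective t
    refine ⟨y * g, ?_⟩
    rw [hpbmap, map_mul, hconj]
    exact congrArg (fun Z : Sub3 T => pb Z.1) ((moveSub_mul _ _ _).trans ht)

end Cfsg.Agent.UnipEight
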