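import Cfsg.Agent.Lib.UnipEight.Basics
import Cfsg.Agent.Lib.UnipEight.SubClasses
import Cfsg.Agent.Lib.UnipSeven.Classes
import Cfsg.Agent.Lib.AutPOmega.PlusClasses

/-!
Classes of subgroups of order three of the simple group through elements of order three of the orthogonal group.
-/

set_option autoImplicit false
set_option linter.unusedSectionVars false

namespace Cfsg.Agent.UnipEight

open scoped Matrix
open UnipSeven (K3)
open AutPOmega (clsGO clsI iso2GO)
open ClassicalSimple (GO simAut conjIsometry commutatorAut)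

/-- The simple group. -/
abbrev T8 := POmega K3 ⇑Q8

/-- Elements of order three. -/
abbrev El := {g : O8 // g ^ 3 = 1 ∧ g ≠ 1}

/-- The projection. -/
noncomputable def toT : ↥Om →* T8 := QuotientGroup.mk' _

theorem center_square {s : ↥Om} (hs : s ∈ Subgroup.center ↥Om) : s ^ 2 = 1 := by
  obtain ⟨a, ha, hm⟩ := Forms.omega_center_matrix Q8 nondeg (by decide) s hs
  refine Subtype.ext ?_
  rw [Subgroup.coe_pow, pow_two]
  refine Subtype.ext (Units.ext ?_)
  show (s.1.1 : Matrix I8 I8 K3) * (s.1.1 : Matrix I8 I8 K3) = 1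
  rw [hm, smul_mul_smul_comm, ha, Matrix.one_mul, one_smul]

/-- A cube-one element is determined by its image. -/
theorem toT_inj {a b : ↥Om} (ha : a ^ 3 = 1) (hb : b ^ 3 = 1) (h : toT a = toT b) : a = b := by
  have hc : a⁻¹ * b ∈ Subgroup.center ↥Om := QuotientGroup.eq.1 h
  have hcomm : ∀ x, x * (a⁻¹ * b) = a⁻¹ * b * x := Subgroup.mem_center_iff.1 hc
  have hab : Commute a b := by
    have e : b = a * (a⁻¹ * b) := (mul_inv_cancel_left _ _).symm
    rw [e]
    exact (Commute.refl a).mul_right (hcomm a)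
  have h3 : (a⁻¹ * b) ^ 3 = 1 := by rw [hab.inv_left.mul_pow, inv_pow, ha, hb, inv_one, one_mul]
  have h2 := center_square hc
  rw [pow_succ, h2, one_mul] at h3
  exact (inv_mul_eq_one.1 h3)

/-- The element as a member of the commutator subgroup. -/
noncomputable def elOm (g : El) : ↥Om := ⟨g.1, mem_om_of_cube g.2.1⟩

theorem elOm_cube (g : El) : elOm g ^ 3 = 1 := Subtype.ext g.2.1

theorem toT_elOm_order (g : El) : orderOf (toT (elOm g)) = 3 := by
  have : Fact (Nat.Prime 3) := ⟨Nat.prime_three⟩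
  refine orderOf_eq_prime (by rw [← map_pow, elOm_cube, map_one]) fun h => g.2.2 ?_
  exact congrArg Subtype.val (toT_inj (elOm_cube g) (one_pow 3) (h.trans (map_one _).symm))

/-- The subgroup of an element. -/
noncomputable def elSub (g : El) : Sub3 T8 :=
  ⟨Subgroup.zpowers (toT (elOm g)), by rw [Nat.card_zpowers, toT_elOm_order]⟩

/-- The class of an element. -/
noncomputable def elClass (g : El) : SubClass T8 := toClass (elSub g)

theorem elClass_surjective : Function.Surjective elClass := by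
  intro x
  obtain ⟨⟨X, hX⟩, rfl⟩ := toClass_surjective x
  obtain ⟨⟨y, hyX⟩, hy1⟩ : ∃ y : X, y ≠ 1 := by
    by_contra h
    push Not at h
    have : Subsingleton X := ⟨fun a b => (h a).trans (h b).symm⟩
    rw [Nat.card_of_subsingleton (1 : X)] at hX
    omega
  have hy : orderOf y = 3 := by
    have hd := Subgroup.orderOf_dvd_natCard X hyX
    rw [hX] at hd
    refine (Nat.prime_three.eq_one_or_self_of_dvd _ hd).resolve_left fun h => hy1 ?_
    exact Subtype.ext (orderOf_eq_one_iff.1 h)
  have : Finite X := Nat.finite_of_card_ne_zero (by omega)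
  have hXy : X = Subgroup.zpowers y :=
    (Subgroup.eq_of_le_of_card_ge (Subgroup.zpowers_le.2 hyX) (by rw [Nat.card_zpowers, hy, hX])).symm
  obtain ⟨s, rfl⟩ : ∃ s, toT s = y := QuotientGroup.mk'_surjective _ y
  have hs3 : s ^ 3 ∈ Subgroup.center ↥Om := by
    rw [← QuotientGroup.eq_one_iff]
    have h3 := pow_orderOf_eq_one (toT s)
    rw [hy] at h3
    show toT (s ^ 3) = 1
    rw [map_pow]; exact h3
  have h43 : (s ^ 4) ^ 3 = 1 := by
    rw [← pow_mul, show 4 * 3 = 3 * 2 * 2 from rfl, pow_mul, pow_mul, center_square hs3, one_pow]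
  have h4 : toT (s ^ 4) = toT s := by
    have h3 := pow_orderOf_eq_one (toT s)
    rw [hy] at h3
    rw [map_pow, pow_succ, h3, one_mul]
  have hne : (s ^ 4).1 ≠ 1 := fun h => by
    rw [show s ^ 4 = 1 from Subtype.ext h, map_one] at h4
    rw [← h4, orderOf_one] at hy
    omega
  refine ⟨⟨(s ^ 4).1, by rw [← Subgroup.coe_pow, h43]; rfl, hne⟩, ?_⟩
  show toClass (elSub _) = toClass _
  refine congrArg toClass (Subtype.ext ?_)
  show Subgroup.zpowers (toT (s ^ 4)) = X
  rw [h4, hXy]

theorem elClass_eq {g h : El} :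
    elClass g = elClass h ↔ ∃ k ∈ Om, k * g.1 * k⁻¹ = h.1 ∨ k * g.1 * k⁻¹ = h.1⁻¹ := by
  rw [elClass, elClass, toClass_eq]
  constructor
  · rintro ⟨t, ht⟩
    obtain ⟨k, rfl⟩ : ∃ k, toT k = t := QuotientGroup.mk'_surjective _ t
    have h1 : Subgroup.zpowers ((MulAut.conj (toT k)).toMonoidHom (toT (elOm g))) = (elSub h).1 := by
      rw [← MonoidHom.map_zpowers]; exact congrArg Subtype.val ht
    have e : (MulAut.conj (toT k)).toMonoidHom (toT (elOm g)) = toT (k * elOm g * k⁻¹) := by
      rw [MulEquiv.coe_toMonoidHom, MulAut.conj_apply, map_mul, map_mul, map_inv]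
    rw [e] at h1
    have hmem : toT (k * elOm g * k⁻¹) ∈ Subgroup.zpowers (toT (elOm h)) := by
      show _ ∈ (elSub h).1
      rw [← h1]
      exact Subgroup.mem_zpowers _
    have hcube : (k * elOm g * k⁻¹) ^ 3 = 1 := by rw [conj_pow, elOm_cube, mul_one, mul_inv_cancel]
    have hne : toT (k * elOm g * k⁻¹) ≠ 1 := by
      rw [map_mul, map_mul, map_inv]
      intro h0
      rw [conj_eq_one_iff] at h0
      have := toT_elOm_order g
      rw [h0, orderOf_one] at this
      omega
    have key : toT (k * elOm g * k⁻¹) = toT (elOm h) ∨ toT (k * elOm g * k⁻¹) = toT (elOm h)⁻¹ := by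
      rw [map_inv]
      obtain ⟨n, hn⟩ := Subgroup.mem_zpowers_iff.1 hmem
      have hy : toT (elOm h) ^ (3 : ℤ) = 1 := by
        have h3 := pow_orderOf_eq_one (toT (elOm h))
        rw [toT_elOm_order] at h3
        exact_mod_cast h3
      rw [← hn] at hne ⊢
      have hn' : toT (elOm h) ^ n = toT (elOm h) ^ (n % 3) := by
        conv_lhs => rw [← Int.mul_ediv_add_emod n 3, zpow_add, zpow_mul, hy, one_zpow, one_mul]
      rw [hn'] at hne ⊢
      have := Int.emod_lt_of_pos n (by decide : (0 : ℤ) < 3)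
      have := Int.emod_nonneg n (by decide : (3 : ℤ) ≠ 0)
      rcases (by omega : n % 3 = 0 ∨ n % 3 = 1 ∨ n % 3 = 2) with e | e | e <;> rw [e] at hne ⊢
      · exact absurd (zpow_zero _) hne
      · exact Or.inl (zpow_one _)
      · right
        rw [eq_inv_iff_mul_eq_one, ← zpow_add_one]
        exact hy
    refine ⟨k.1, k.2, key.imp (fun h' => ?_) fun h' => ?_⟩
    · exact congrArg Subtype.val (toT_inj hcube (elOm_cube h) h')
    · exact congrArg Subtype.val (toT_inj hcube (by rw [inv_pow, elOm_cube, inv_one]) h')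
  · rintro ⟨k, hk, h'⟩
    refine ⟨toT ⟨k, hk⟩, Subtype.ext ?_⟩
    show (Subgroup.zpowers (toT (elOm g))).map (MulAut.conj (toT ⟨k, hk⟩)).toMonoidHom = _
    rw [MonoidHom.map_zpowers, MulEquiv.coe_toMonoidHom, MulAut.conj_apply, ← map_inv, ← map_mul, ← map_mul]
    rcases h' with h' | h'
    · rw [show (⟨k, hk⟩ : ↥Om) * elOm g * ⟨k, hk⟩⁻¹ = elOm h from Subtype.ext h']
      rfl
    · rw [show (⟨k, hk⟩ : ↥Om) * elOm g * ⟨k, hk⟩⁻¹ = (elOm h)⁻¹ from Subtype.ext h', map_inv,
        Subgroup.zpowers_inv]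
      rfl

/-- An element moved by a similarity. -/
noncomputable def simEl (s : GO Q8) (g : El) : El :=
  ⟨conjIsometry Q8 s g.1, by rw [← map_pow, g.2.1, map_one],
    fun h => g.2.2 ((conjIsometry Q8 s).injective (h.trans (map_one _).symm))⟩

theorem outClass_elClass (s : GO Q8) (g : El) :
    outClass (clsGO Q8 s) (elClass g) = elClass (simEl s g) := by
  show toClass (moveSub (simAut Q8 s) (elSub g)) = toClass (elSub (simEl s g))
  refine congrArg toClass (Subtype.ext ?_)
  show (Subgroup.zpowers (toT (elOm g))).map (simAut Q8 s).toMonoidHom = _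
  rw [MonoidHom.map_zpowers]
  rfl

theorem simEl_iso (k : O8) (g : El) : (simEl (iso2GO Q8 k) g).1 = k * g.1 * k⁻¹ := rfl

theorem outClass_iso_fixed {k : O8} {g : El} (h : Commute k g.1) :
    outClass (clsI Q8 k) (elClass g) = elClass g := by
  show outClass (clsGO Q8 (iso2GO Q8 k)) _ = _
  rw [outClass_elClass]
  refine congrArg elClass (Subtype.ext ?_)
  rw [simEl_iso, h.eq, mul_inv_cancel_right]

end Cfsg.Agent.UnipEight
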