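import Cfsg.Agent.Lib.UnipSeven.Invariant
import Cfsg.Agent.Lib.QForm.Std
import Cfsg.Agent.Lib.QForm.OmegaQuot
import Cfsg.Agent.Lib.QForm.MaximalSingular

/-!
The eight-dimensional hyperbolic form over the field with three elements, and matrices for its isometries.
-/

set_option autoImplicit false
set_option linter.unusedSectionVars false

namespace Cfsg.Agent.UnipEight

open scoped Matrix
open UnipSeven (K3 pol Frame)

/-- The index type of the eight coordinates. -/
abbrev I8 := Fin 4 ⊕ Fin 4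

/-- The quadratic form. -/
noncomputable abbrev Q8 : QuadraticForm K3 (I8 → K3) := QForm.plusForm K3 4

/-- The orthogonal group. -/
abbrev O8 := ↥(isometryGroup K3 ⇑Q8)

theorem nondeg : (QuadraticMap.polarBilin Q8).Nondegenerate := QForm.plusForm_nondegenerate K3 4

theorem card_I8 : Fintype.card I8 = 8 := rfl

/-- Position of a coordinate. -/
def idx : I8 → Fin 8 := Sum.elim ![0, 1, 2, 3] ![4, 5, 6, 7]

/-- A vector given by its eight coordinates. -/
def vec (l : Fin 8 → K3) : I8 → K3 := fun p => l (idx p)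

/-- The polar matrix. -/
def B8 : Matrix I8 I8 K3 := Matrix.fromBlocks 0 1 1 0

theorem pol_eq (x y : I8 → K3) : pol Q8 x y = x ⬝ᵥ B8 *ᵥ y := by
  rw [pol, QuadraticMap.polar, QForm.plusForm_apply, QForm.plusForm_apply, QForm.plusForm_apply]
  simp [quadFormPlus, dotProduct, B8, Matrix.fromBlocks_mulVec, Fin.sum_univ_four, Fintype.sum_sum_type]
  ring

theorem q8_eq (x : I8 → K3) : Q8 x = -(x ⬝ᵥ B8 *ᵥ x) := by rw [UnipSeven.eval_eq, pol_eq]

theorem dot_mulVec_mulVec {m n : Type} [Fintype m] [Fintype n] (A : Matrix m n K3) (B : Matrix m m K3)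
    (x y : n → K3) : (A *ᵥ x) ⬝ᵥ B *ᵥ (A *ᵥ y) = x ⬝ᵥ (Aᵀ * B * A) *ᵥ y := by
  rw [← Matrix.mulVec_mulVec, ← Matrix.mulVec_mulVec, Matrix.dotProduct_mulVec x Aᵀ, Matrix.vecMul_transpose]

/-- An isometry of order dividing three from a matrix. -/
noncomputable def mk3 (M : Matrix I8 I8 K3) (h : Mᵀ * B8 * M = B8) (h3 : M * (M * M) = 1) : O8 :=
  ⟨⟨M, M * M, h3, by rw [Matrix.mul_assoc]; exact h3⟩, fun u _ => by
    show Q8 (M *ᵥ u) = Q8 u
    rw [q8_eq, q8_eq, dot_mulVec_mulVec, h]⟩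

theorem mk3_cube (M : Matrix I8 I8 K3) (h : Mᵀ * B8 * M = B8) (h3 : M * (M * M) = 1) :
    mk3 M h h3 ^ 3 = 1 :=
  Subtype.ext (Units.ext (by
    simp only [pow_succ, pow_zero, one_mul]
    show M * M * M = 1
    rw [Matrix.mul_assoc]; exact h3))

theorem mk3_ne_one {M : Matrix I8 I8 K3} {h : Mᵀ * B8 * M = B8} {h3 : M * (M * M) = 1} (hne : M ≠ 1) :
    mk3 M h h3 ≠ 1 :=
  fun e => hne (congrArg (fun g : O8 => (g.1 : Matrix I8 I8 K3)) e)

/-- The matrix fixing the orthogonal complement of the columns of `E` and acting by `S` on them. -/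
def repMat {n : Type} [Fintype n] [DecidableEq n] (E : Matrix I8 n K3) (S G' : Matrix n n K3) : Matrix I8 I8 K3 :=
  1 + E * (S - 1) * G' * (Eᵀ * B8)

theorem frame_mk3 {n : Type} [Fintype n] [DecidableEq n] {E : Matrix I8 n K3} {G S G' : Matrix n n K3}
    {M : Matrix I8 I8 K3} (hM : M = repMat E S G') (h : Mᵀ * B8 * M = B8) (h3 : M * (M * M) = 1)
    (hgram : Eᵀ * B8 * E = G) (hmove : M * E = E * S) : Frame (mk3 M h h3) G S fun i p => E p i := by
  refine ⟨fun i j => ?_, fun j => ?_, fun x hx => ?_⟩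
  · rw [pol_eq, ← hgram]
    rw [Matrix.mul_assoc, Matrix.mul_apply']
    rfl
  · funext p
    show (M *ᵥ fun q => E q j) p = _
    rw [show (M *ᵥ fun q => E q j) p = (M * E) p j from rfl, hmove]
    simp [Matrix.mul_apply, mul_comm]
  · show M *ᵥ x = x
    have h0 : (Eᵀ * B8) *ᵥ x = 0 := funext fun i => by
      rw [← Matrix.mulVec_mulVec]
      exact (pol_eq (fun p => E p i) x).symm.trans (hx i)
    rw [hM, repMat, Matrix.add_mulVec, Matrix.one_mulVec, ← Matrix.mulVec_mulVec, h0, Matrix.mulVec_zero,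
      add_zero]

/-- The matrix of an isometry preserves the polar matrix. -/
theorem iso_matrix (z : O8) : (z.1 : Matrix I8 I8 K3)ᵀ * B8 * (z.1 : Matrix I8 I8 K3) = B8 := by
  ext p q
  have h := QForm.act_polar Q8 z (Pi.single p 1) (Pi.single q 1)
  change pol Q8 _ _ = pol Q8 _ _ at h
  rw [pol_eq, pol_eq, dot_mulVec_mulVec] at h
  simpa [Matrix.mulVec_single_one] using h

end Cfsg.Agent.UnipEight
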