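import Cfsg.Agent.Lib.UnipEight.Types
import Cfsg.Agent.Lib.UnipEight.Count
import Cfsg.Agent.Lib.AutPOmega.OutEight

/-!
The thirteen classes of subgroups of order three and the seven orbits under a subgroup of order six of the outer
automorphism group.
-/

set_option autoImplicit false
set_option linter.unusedSectionVars false
set_option maxHeartbeats 1000000

namespace Cfsg.Agent.UnipEight

open scoped Matrix
open UnipSeven (K3)
open QForm (refl)
open ClassicalSimple (GO conjIsometry)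
open AutPOmega (clsGO clsI iso2GO)

/-- A vector of norm one. -/
def va : I8 → K3 := vec ![1, 0, 0, 0, 1, 0, 0, 0]

/-- A vector of norm two. -/
def vb : I8 → K3 := vec ![1, 0, 0, 0, 2, 0, 0, 0]

theorem va_norm : -(va ⬝ᵥ B8 *ᵥ va) = 1 := by decide +kernel

theorem vb_norm : -(vb ⬝ᵥ B8 *ᵥ vb) = 2 := by decide +kernel

/-- The reflection of negative sign. -/
noncomputable def ra : O8 := refl Q8 va (q_ne va_norm one_ne_zero)

/-- The reflection of positive sign. -/
noncomputable def rb : O8 := refl Q8 vb (q_ne vb_norm (by decide))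

theorem ra_inv : sgn8 ra = -1 ∧ (ra.1 : Matrix I8 I8 K3).det = -1 := by
  refine ⟨?_, det_refl _ _⟩
  rw [ra, sgn_refl, q_vec va_norm, if_pos rfl]

theorem rb_inv : sgn8 rb = 1 ∧ (rb.1 : Matrix I8 I8 K3).det = -1 := by
  refine ⟨?_, det_refl _ _⟩
  rw [rb, sgn_refl, q_vec vb_norm, if_neg (by decide)]

/-- The four cosets. -/
noncomputable def uu : Fin 4 → O8 := ![1, ra, rb, ra * rb]

/-- Their signs. -/
def uSgn : Fin 4 → ℤˣ := ![1, -1, 1, -1]

/-- Their determinants. -/
def uDet : Fin 4 → K3 := ![1, -1, -1, 1]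

theorem uu_inv : ∀ i, sgn8 (uu i) = uSgn i ∧ ((uu i).1 : Matrix I8 I8 K3).det = uDet i := by
  obtain ⟨a1, a2⟩ := ra_inv
  obtain ⟨b1, b2⟩ := rb_inv
  intro i
  fin_cases i
  · exact ⟨map_one _, Matrix.det_one⟩
  · exact ⟨a1, a2⟩
  · exact ⟨b1, b2⟩
  · refine ⟨?_, ?_⟩
    · show sgn8 (ra * rb) = -1
      rw [map_mul, a1, b1, mul_one]
    · show ((ra * rb : O8).1 : Matrix I8 I8 K3).det = 1
      rw [det_mul', a2, b2]; decide

theorem clsI_congr_inv {a b : O8} (hs : sgn8 a = sgn8 b)
    (hd : (a.1 : Matrix I8 I8 K3).det = (b.1 : Matrix I8 I8 K3).det) : clsI Q8 a = clsI Q8 b := by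
  have hunit : (a.1 : Matrix I8 I8 K3).det ≠ 0 := fun h0 => by
    have := congrArg Matrix.det (show ((a⁻¹ * a : O8).1 : Matrix I8 I8 K3) = 1 by rw [inv_mul_cancel]; rfl)
    rw [det_mul', h0, mul_zero, Matrix.det_one] at this
    exact zero_ne_one this
  have h : a⁻¹ * b ∈ Om := by
    refine (mem_om_iff _).2 ⟨by rw [map_mul, map_inv, hs, inv_mul_cancel], ?_⟩
    have h1 : ((a * (a⁻¹ * b) : O8).1 : Matrix I8 I8 K3).det = (b.1 : Matrix I8 I8 K3).det := by
      rw [mul_inv_cancel_left]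
    rw [det_mul', ← hd] at h1
    exact mul_left_cancel₀ hunit (h1.trans (mul_one _).symm)
  have h2 := AutPOmega.clsI_eq_one h
  rw [map_mul, map_inv, inv_mul_eq_one] at h2
  exact h2

theorem exists_coset (k : O8) : ∃ i, clsI Q8 k = clsI Q8 (uu i) := by
  obtain ⟨vs, hvs, hkm⟩ := QForm.exists_list nondeg (Or.inl (by decide)) k
  obtain ⟨-, hdet⟩ := QForm.invariants_of_prod (by decide) vs hvs k hkm
  have key : ∀ (s : ℤˣ) (d : K3), d = 1 ∨ d = -1 → ∃ i, uSgn i = s ∧ uDet i = d := by decide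
  obtain ⟨i, hi1, hi2⟩ := key (sgn8 k) (k.1 : Matrix I8 I8 K3).det (by rw [hdet]; exact neg_one_pow_eq_or K3 vs.length)
  exact ⟨i, clsI_congr_inv (by rw [(uu_inv i).1, hi1]) (by rw [(uu_inv i).2, hi2])⟩

/-- The permutation of classes attached to a coset. -/
noncomputable def act4 (i : Fin 4) : Equiv.Perm (SubClass T8) := outClass (clsI Q8 (uu i))

/-- The class of a representative. -/
noncomputable def base (t : Fin 8) : SubClass T8 := elClass (repEl t)

theorem class_conj {k : O8} {g h : El} (e : k * g.1 * k⁻¹ = h.1) :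
    elClass h = outClass (clsI Q8 k) (elClass g) := by
  show _ = outClass (clsGO Q8 (iso2GO Q8 k)) _
  rw [outClass_elClass]
  exact congrArg elClass (Subtype.ext (by rw [simEl_iso, e]))

theorem exists_form (x : SubClass T8) : ∃ t i, x = act4 i (base t) := by
  obtain ⟨g, rfl⟩ := elClass_surjective x
  obtain ⟨t, k, hk⟩ := exhaust g
  obtain ⟨i, hi⟩ := exists_coset k⁻¹
  refine ⟨t, i, ?_⟩
  have e : k⁻¹ * (repEl t).1 * k⁻¹⁻¹ = g.1 := by rw [← hk]; group
  rw [class_conj e, hi]
  rfl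

theorem type_eq {s t : Fin 8} {i j : Fin 4} (h : act4 i (base s) = act4 j (base t)) : s = t := by
  change outClass (clsGO Q8 (iso2GO Q8 (uu i))) _ = outClass (clsGO Q8 (iso2GO Q8 (uu j))) _ at h
  rw [base, base, outClass_elClass, outClass_elClass] at h
  obtain ⟨k, -, hk⟩ := elClass_eq.1 h
  rw [simEl_iso, simEl_iso] at hk
  refine separated (k := (uu j)⁻¹ * k * uu i) (hk.imp (fun hk => ?_) fun hk => ?_)
  · calc (uu j)⁻¹ * k * uu i * (repEl s).1 * ((uu j)⁻¹ * k * uu i)⁻¹
        = (uu j)⁻¹ * (k * (uu i * (repEl s).1 * (uu i)⁻¹) * k⁻¹) * uu j := by group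
      _ = _ := by rw [hk]; group
  · calc (uu j)⁻¹ * k * uu i * (repEl s).1 * ((uu j)⁻¹ * k * uu i)⁻¹
        = (uu j)⁻¹ * (k * (uu i * (repEl s).1 * (uu i)⁻¹) * k⁻¹) * uu j := by group
      _ = _ := by rw [hk]; group

theorem act4_zero (x : SubClass T8) : act4 0 x = x := by
  show outClass (clsI Q8 1) x = x
  rw [map_one, map_one]
  rfl

theorem act4_three (x : SubClass T8) : act4 3 x = act4 1 (act4 2 x) := by
  show outClass (clsI Q8 (ra * rb)) x = _
  rw [map_mul, map_mul]
  rfl

theorem act4_comm (x : SubClass T8) : act4 1 (act4 2 x) = act4 2 (act4 1 x) := by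
  show (outClass (clsI Q8 ra) * outClass (clsI Q8 rb)) x = (outClass (clsI Q8 rb) * outClass (clsI Q8 ra)) x
  rw [← map_mul outClass, ← map_mul outClass, (AutPOmega.clsI_comm ra rb).eq]

theorem act4_self (i : Fin 4) (x : SubClass T8) : act4 i (act4 i x) = x := by
  show (outClass (clsI Q8 (uu i)) * outClass (clsI Q8 (uu i))) x = x
  rw [← map_mul, AutPOmega.clsI_mul_self nondeg (by decide), map_one]
  rfl

theorem fixed_of_vec {g : O8} {v : I8 → K3} {c : K3} {i : Fin 4} (hv : QForm.act Q8 g v = v)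
    (hc : -(v ⬝ᵥ B8 *ᵥ v) = c) (hne : c ≠ 0) (hs : uSgn i = if c = 1 then -1 else 1) (hd : uDet i = -1)
    (g' : El) (hg : g'.1 = g) : act4 i (elClass g') = elClass g' := by
  have hv0 := q_ne hc hne
  have e : clsI Q8 (uu i) = clsI Q8 (refl Q8 v hv0) :=
    clsI_congr_inv (by rw [(uu_inv i).1, sgn_refl, q_vec hc, hs]) (by rw [(uu_inv i).2, det_refl, hd])
  show outClass (clsI Q8 (uu i)) _ = _
  rw [e]
  refine outClass_iso_fixed ?_
  rw [hg]
  have hw : QForm.act Q8 g v = (1 : K3) • v := by rw [one_smul]; exact hv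
  have e' := (QForm.conj_refl Q8 g v hv0).trans (QForm.refl_congr Q8 hv0 (by rwa [QForm.act_map]) hw)
  exact (mul_inv_eq_iff_eq_mul.1 e').symm

theorem fixed_five : ∀ t ∈ ([0, 2, 3, 6, 7] : List (Fin 8)), act4 1 (base t) = base t ∧ act4 2 (base t) = base t := by
  intro t ht
  simp only [List.mem_cons, List.not_mem_nil, or_false] at ht
  rcases ht with rfl | rfl | rfl | rfl | rfl
  · exact ⟨fixed_of_vec (g := gA) (v := vec ![0, 1, 0, 0, 0, 1, 0, 0]) (c := 1)
        (by show MA *ᵥ _ = _; decide +kernel) (by decide +kernel) one_ne_zero (by decide) (by decide) _ rep_zero,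
      fixed_of_vec (g := gA) (v := vec ![0, 1, 0, 0, 0, 2, 0, 0]) (c := 2)
        (by show MA *ᵥ _ = _; decide +kernel) (by decide +kernel) (by decide) (by decide) (by decide) _ rep_zero⟩
  · exact ⟨fixed_of_vec (g := gB1) (v := vec ![0, 1, 0, 0, 0, 1, 0, 0]) (c := 1)
        (by show MB1 *ᵥ _ = _; decide +kernel) (by decide +kernel) one_ne_zero (by decide) (by decide) _ rep_two,
      fixed_of_vec (g := gB1) (v := vec ![0, 1, 0, 0, 0, 2, 0, 0]) (c := 2)
        (by show MB1 *ᵥ _ = _; decide +kernel) (by decide +kernel) (by decide) (by decide) (by decide) _ rep_two⟩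
  · exact ⟨fixed_of_vec (g := gB2) (v := vec ![0, 1, 0, 0, 0, 1, 0, 0]) (c := 1)
        (by show MB2 *ᵥ _ = _; decide +kernel) (by decide +kernel) one_ne_zero (by decide) (by decide) _ rep_three,
      fixed_of_vec (g := gB2) (v := vec ![0, 1, 0, 0, 0, 2, 0, 0]) (c := 2)
        (by show MB2 *ᵥ _ = _; decide +kernel) (by decide +kernel) (by decide) (by decide) (by decide) _ rep_three⟩
  · exact ⟨fixed_of_vec (g := gD1) (v := vec ![1, 0, 1, 0, 2, 0, 2, 0]) (c := 1)
        (by show MD1 *ᵥ _ = _; decide +kernel) (by decide +kernel) one_ne_zero (by decide) (by decide) _ rep_six,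
      fixed_of_vec (g := gD1) (v := vec ![0, 0, 1, 0, 0, 0, 2, 0]) (c := 2)
        (by show MD1 *ᵥ _ = _; decide +kernel) (by decide +kernel) (by decide) (by decide) (by decide) _ rep_six⟩
  · exact ⟨fixed_of_vec (g := gD2) (v := vec ![1, 0, 0, 0, 1, 0, 0, 0]) (c := 1)
        (by show MD2 *ᵥ _ = _; decide +kernel) (by decide +kernel) one_ne_zero (by decide) (by decide) _ rep_seven,
      fixed_of_vec (g := gD2) (v := vec ![1, 0, 0, 0, 2, 0, 0, 0]) (c := 2)
        (by show MD2 *ᵥ _ = _; decide +kernel) (by decide +kernel) (by decide) (by decide) (by decide) _ rep_seven⟩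

theorem fixed_C : act4 2 (base 4) = base 4 ∧ act4 1 (base 5) = base 5 :=
  ⟨fixed_of_vec (g := gC1) (v := wC1) (c := 2) (by show MC1 *ᵥ _ = _; decide +kernel) wC1_norm (by decide)
      (by decide) (by decide) _ rep_four,
    fixed_of_vec (g := gC2) (v := wC2) (c := 1) (by show MC2 *ᵥ _ = _; decide +kernel) wC2_norm one_ne_zero
      (by decide) (by decide) _ rep_five⟩

/-- A fixed class gives a centralising element in the coset. -/
theorem commuting_of_fixed {g : El} {i : Fin 4} (hinv : ∃ z : O8, z ∈ Om ∧ z * g.1 * z⁻¹ = g.1⁻¹)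
    (h : act4 i (elClass g) = elClass g) :
    ∃ y : O8, Commute y g.1 ∧ sgn8 y = uSgn i ∧ (y.1 : Matrix I8 I8 K3).det = uDet i := by
  change outClass (clsGO Q8 (iso2GO Q8 (uu i))) _ = _ at h
  rw [outClass_elClass] at h
  obtain ⟨k, hk, hk'⟩ := elClass_eq.1 h
  rw [simEl_iso] at hk'
  have main : ∀ ω : O8, ω ∈ Om → ω * (uu i * g.1 * (uu i)⁻¹) * ω⁻¹ = g.1 →
      ∃ y : O8, Commute y g.1 ∧ sgn8 y = uSgn i ∧ (y.1 : Matrix I8 I8 K3).det = uDet i := by
    intro ω hω e
    obtain ⟨h1, h2⟩ := (mem_om_iff ω).1 hω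
    refine ⟨ω * uu i, ?_, by rw [map_mul, h1, one_mul, (uu_inv i).1],
      by rw [det_mul', h2, one_mul, (uu_inv i).2]⟩
    show ω * uu i * g.1 = g.1 * (ω * uu i)
    conv_rhs => rw [← e]
    group
  rcases hk' with e | e
  · exact main k hk e
  · obtain ⟨j, hj, hj'⟩ := hinv
    refine main (j * k) (Subgroup.mul_mem _ hj hk) ?_
    calc j * k * (uu i * g.1 * (uu i)⁻¹) * (j * k)⁻¹ = j * (k * (uu i * g.1 * (uu i)⁻¹) * k⁻¹) * j⁻¹ := by group
      _ = (j * g.1 * j⁻¹)⁻¹ := by rw [e]; group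
      _ = g.1 := by rw [hj', inv_inv]

theorem moved_A4 {i : Fin 4} (hi : i ≠ 0) : act4 i (base 1) ≠ base 1 := by
  intro h
  obtain ⟨y, hy, hs, hd⟩ := commuting_of_fixed (by rw [rep_one]; exact invA4) h
  rw [rep_one] at hy
  obtain ⟨h1, h2⟩ := (mem_om_iff y).1 (commA4 hy)
  exact hi ((by decide : ∀ i : Fin 4, uSgn i = 1 → uDet i = 1 → i = 0) i (hs.symm.trans h1) (hd.symm.trans h2))

theorem rC_inv : sgn8 rC1 = 1 ∧ sgn8 rC2 = -1 ∧ (rC1.1 : Matrix I8 I8 K3).det = -1 ∧
    (rC2.1 : Matrix I8 I8 K3).det = -1 := by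
  refine ⟨?_, ?_, det_refl _ _, det_refl _ _⟩
  · rw [rC1, sgn_refl, q_vec wC1_norm, if_neg (by decide)]
  · rw [rC2, sgn_refl, q_vec wC2_norm, if_pos rfl]

theorem moved_C1 {i : Fin 4} (hi : i ≠ 0) (hi' : i ≠ 2) : act4 i (base 4) ≠ base 4 := by
  intro h
  obtain ⟨y, hy, hs, hd⟩ := commuting_of_fixed (by rw [rep_four]; exact invC1) h
  rw [rep_four] at hy
  obtain ⟨r1, -, r2, -⟩ := rC_inv
  rcases commC coordsC1 hy with hy' | hy' <;> obtain ⟨h1, h2⟩ := (mem_om_iff _).1 hy'
  · exact hi ((by decide : ∀ i : Fin 4, uSgn i = 1 → uDet i = 1 → i = 0) i (hs.symm.trans h1) (hd.symm.trans h2))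
  · rw [map_mul, r1, hs, one_mul] at h1
    rw [det_mul', r2, hd] at h2
    exact hi' ((by decide : ∀ i : Fin 4, uSgn i = 1 → -1 * uDet i = 1 → i = 2) i h1 h2)

theorem moved_C2 {i : Fin 4} (hi : i ≠ 0) (hi' : i ≠ 1) : act4 i (base 5) ≠ base 5 := by
  intro h
  obtain ⟨y, hy, hs, hd⟩ := commuting_of_fixed (by rw [rep_five]; exact invC2) h
  rw [rep_five] at hy
  obtain ⟨-, r1, -, r2⟩ := rC_inv
  rcases commC coordsC2 hy with hy' | hy' <;> obtain ⟨h1, h2⟩ := (mem_om_iff _).1 hy'
  · exact hi ((by decide : ∀ i : Fin 4, uSgn i = 1 → uDet i = 1 → i = 0) i (hs.symm.trans h1) (hd.symm.trans h2))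
  · rw [map_mul, r1, hs] at h1
    rw [det_mul', r2, hd] at h2
    exact hi' ((by decide : ∀ i : Fin 4, -1 * uSgn i = 1 → -1 * uDet i = 1 → i = 1) i h1 h2)

/-! ### The thirteen classes -/

/-- Type and coset of each class. -/
def lab : Fin 13 → Fin 8 × Fin 4 :=
  ![(0, 0), (2, 0), (3, 0), (6, 0), (7, 0), (1, 0), (1, 1), (1, 2), (1, 3), (4, 0), (4, 1), (5, 0), (5, 2)]

/-- The classes. -/
noncomputable def cls13 (x : Fin 13) : SubClass T8 := act4 (lab x).2 (base (lab x).1)

/-- The product of cosets. -/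
def comp4 : Fin 4 → Fin 4 → Fin 4 := ![![0, 1, 2, 3], ![1, 0, 3, 2], ![2, 3, 0, 1], ![3, 2, 1, 0]]

/-- The action of a coset on the labels. -/
def perm13 : Fin 4 → Fin 13 → Fin 13 :=
  ![id, ![0, 1, 2, 3, 4, 6, 5, 8, 7, 10, 9, 11, 12], ![0, 1, 2, 3, 4, 7, 8, 5, 6, 9, 10, 12, 11],
    ![0, 1, 2, 3, 4, 8, 7, 6, 5, 10, 9, 12, 11]]

theorem act4_comp (i j : Fin 4) (x : SubClass T8) : act4 i (act4 j x) = act4 (comp4 i j) x := by
  show (outClass (clsI Q8 (uu i)) * outClass (clsI Q8 (uu j))) x = outClass (clsI Q8 (uu (comp4 i j))) x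
  rw [← map_mul, ← map_mul, clsI_congr_inv (b := uu (comp4 i j))]
  · rw [map_mul, (uu_inv i).1, (uu_inv j).1, (uu_inv _).1]
    exact (by decide : ∀ i j, uSgn i * uSgn j = uSgn (comp4 i j)) i j
  · rw [det_mul', (uu_inv i).2, (uu_inv j).2, (uu_inv _).2]
    exact (by decide : ∀ i j, uDet i * uDet j = uDet (comp4 i j)) i j

/-- The label of a coset applied to a type. -/
def red : Fin 8 → Fin 4 → Fin 13 :=
  ![fun _ => 0, ![5, 6, 7, 8], fun _ => 1, fun _ => 2, ![9, 10, 9, 10], ![11, 11, 12, 12], fun _ => 3, fun _ => 4]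

theorem act4_absorb (t : Fin 8) (i : Fin 4) : act4 i (base t) = cls13 (red t i) := by
  obtain ⟨c1, c2⟩ := fixed_C
  have five : ∀ t ∈ ([0, 2, 3, 6, 7] : List (Fin 8)), ∀ i, act4 i (base t) = base t := fun t ht i => by
    obtain ⟨e1, e2⟩ := fixed_five t ht
    fin_cases i
    · exact act4_zero _
    · exact e1
    · exact e2
    · show act4 3 (base t) = base t
      rw [act4_three, e2, e1]
  have fs : ∀ (x : Fin 13) (t : Fin 8), t ∈ ([0, 2, 3, 6, 7] : List (Fin 8)) → lab x = (t, 0) →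
      act4 i (base t) = cls13 x := fun x t ht hx => by
    rw [cls13, hx, act4_zero, five t ht]
  fin_cases t
  · exact fs 0 0 (by decide) rfl
  · fin_cases i <;> rfl
  · exact fs 1 2 (by decide) rfl
  · exact fs 2 3 (by decide) rfl
  · fin_cases i
    · rfl
    · rfl
    · show act4 2 (base 4) = act4 0 (base 4)
      rw [c1, act4_zero]
    · show act4 3 (base 4) = act4 1 (base 4)
      rw [act4_three, c1]
  · fin_cases i
    · rfl
    · show act4 1 (base 5) = act4 0 (base 5)
      rw [c2, act4_zero]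
    · rfl
    · show act4 3 (base 5) = act4 2 (base 5)
      rw [act4_three, act4_comm, c2]
  · exact fs 3 6 (by decide) rfl
  · exact fs 4 7 (by decide) rfl

theorem cls13_surjective : Function.Surjective cls13 := by
  intro x
  obtain ⟨t, i, rfl⟩ := exists_form x
  exact ⟨red t i, (act4_absorb t i).symm⟩

theorem cls13_injective : Function.Injective cls13 := by
  intro x y h
  have ht : (lab x).1 = (lab y).1 := type_eq h
  have h' : act4 (comp4 (lab x).2 (lab y).2) (base (lab x).1) = base (lab x).1 := by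
    rw [← act4_comp]
    conv_lhs => rw [ht]
    rw [show act4 (lab y).2 (base (lab y).1) = act4 (lab x).2 (base (lab x).1) from h.symm, act4_self]
  rcases (by decide : ∀ x y : Fin 13, (lab x).1 = (lab y).1 →
      x = y ∨ ((lab x).1 = 1 ∧ comp4 (lab x).2 (lab y).2 ≠ 0) ∨
        ((lab x).1 = 4 ∧ comp4 (lab x).2 (lab y).2 = 1) ∨
        ((lab x).1 = 5 ∧ comp4 (lab x).2 (lab y).2 = 2)) x y ht with e | ⟨e1, e2⟩ | ⟨e1, e2⟩ | ⟨e1, e2⟩
  · exact e
  · rw [e1] at h'
    exact absurd h' (moved_A4 e2)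
  · rw [e1, e2] at h'
    exact absurd h' (moved_C1 (by decide) (by decide))
  · rw [e1, e2] at h'
    exact absurd h' (moved_C2 (by decide) (by decide))

theorem card_classes : Nat.card (SubClass T8) = 13 := by
  rw [← Nat.card_congr (Equiv.ofBijective _ ⟨cls13_injective, cls13_surjective⟩), Nat.card_fin]

theorem act4_cls13 (i : Fin 4) (x : Fin 13) : act4 i (cls13 x) = cls13 (perm13 i x) := by
  show act4 i (act4 (lab x).2 (base (lab x).1)) = _
  rw [act4_comp, act4_absorb]
  exact congrArg cls13 ((by decide : ∀ i x, red (lab x).1 (comp4 i (lab x).2) = perm13 i x) i x)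

theorem fix_count (i : Fin 4) :
    Nat.card {x // act4 i x = x} = (Finset.univ.filter fun x => perm13 i x = x).card := by
  rw [← Fintype.card_subtype, ← Nat.card_eq_fintype_card]
  refine (Nat.card_congr (Equiv.subtypeEquiv (Equiv.ofBijective _ ⟨cls13_injective, cls13_surjective⟩)
    fun x => ?_)).symm
  show perm13 i x = x ↔ act4 i (cls13 x) = cls13 x
  rw [act4_cls13, cls13_injective.eq_iff]

theorem fix_subset {x : SubClass T8} (h : act4 3 x = x) : act4 1 x = x := by
  obtain ⟨y, rfl⟩ := cls13_surjective x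
  rw [act4_cls13, cls13_injective.eq_iff] at h
  rw [act4_cls13]
  exact congrArg cls13 ((by decide : ∀ y, perm13 3 y = y → perm13 1 y = y) y h)

/-- The class of the similarity. -/
noncomputable def eOut : Out T8 := clsGO Q8 simD

theorem simD_sq : simD * simD = 1 := by
  rw [simD, ← map_mul, show (-1 : K3ˣ) * -1 = 1 by simp, map_one]

theorem eOut_sq : eOut * eOut = 1 := by rw [eOut, ← map_mul, simD_sq, map_one]

theorem eOut_conj : eOut * clsI Q8 ra * eOut⁻¹ = clsI Q8 rb := by
  rw [inv_eq_of_mul_eq_one_right eOut_sq]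
  show clsGO Q8 simD * clsGO Q8 (iso2GO Q8 ra) * clsGO Q8 simD = clsGO Q8 (iso2GO Q8 rb)
  rw [← map_mul, ← map_mul]
  refine congrArg _ (Subtype.ext (Units.ext ?_))
  show ClassicalSimple.diagBlock 4 ((-1 : K3ˣ) : K3) * (ra.1 : Matrix I8 I8 K3) *
    ClassicalSimple.diagBlock 4 ((-1 : K3ˣ) : K3) = (rb.1 : Matrix I8 I8 K3)
  rw [ra, rb, matrix_refl, matrix_refl, ClassicalSimple.diagBlock]
  decide +kernel

theorem eOut_class {s t : Fin 8} (ht : t ∈ ([0, 2, 3, 6, 7] : List (Fin 8)))
    (h : ∃ k, k * (simEl simD (repEl s)).1 * k⁻¹ = (repEl t).1) : outClass eOut (base s) = base t := by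
  obtain ⟨k, hk⟩ := h
  have h1 := class_conj hk
  obtain ⟨i, hi⟩ := exists_coset k
  rw [hi] at h1
  change base t = act4 i _ at h1
  have h2 := congrArg (act4 i) h1
  rw [act4_self] at h2
  obtain ⟨e1, e2⟩ := fixed_five t ht
  have h3 : act4 i (base t) = base t := by
    fin_cases i
    · exact act4_zero _
    · exact e1
    · exact e2
    · show act4 3 (base t) = base t
      rw [act4_three, e2, e1]
  rw [h3] at h2
  show outClass (clsGO Q8 simD) (elClass (repEl s)) = _
  rw [outClass_elClass, h2]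

theorem eOut_five :
    Nat.card {x // act4 3 x = x ∧ outClass eOut x = x} = 3 := by
  obtain ⟨e0, e2, e3, e6, e7⟩ := simD_type
  have h0 := eOut_class (by decide) e0
  have h2 := eOut_class (by decide) e2
  have h3 := eOut_class (by decide) e3
  have h6 := eOut_class (by decide) e6
  have h7 := eOut_class (by decide) e7
  have key : ∀ y : Fin 13, (act4 3 (cls13 y) = cls13 y ∧ outClass eOut (cls13 y) = cls13 y) ↔
      y ∈ ({0, 3, 4} : Finset (Fin 13)) := by
    intro y
    constructor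
    · rintro ⟨hd, he⟩
      rw [act4_cls13, cls13_injective.eq_iff] at hd
      rcases (by decide : ∀ y, perm13 3 y = y → y ∈ ({0, 3, 4} : Finset (Fin 13)) ∨ y = 1 ∨ y = 2) y hd with
        e | rfl | rfl
      · exact e
      · exfalso
        have h' : cls13 2 = cls13 1 := by
          calc cls13 2 = base 3 := act4_zero _
            _ = outClass eOut (base 2) := h2.symm
            _ = outClass eOut (cls13 1) := by rw [show cls13 1 = base 2 from act4_zero _]
            _ = cls13 1 := he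
        exact absurd (cls13_injective h') (by decide)
      · exfalso
        have h' : cls13 1 = cls13 2 := by
          calc cls13 1 = base 2 := act4_zero _
            _ = outClass eOut (base 3) := h3.symm
            _ = outClass eOut (cls13 2) := by rw [show cls13 2 = base 3 from act4_zero _]
            _ = cls13 2 := he
        exact absurd (cls13_injective h') (by decide)
    · intro hy
      refine ⟨by rw [act4_cls13]; exact congrArg cls13 ((by decide : ∀ y ∈ ({0, 3, 4} : Finset (Fin 13)),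
        perm13 3 y = y) y hy), ?_⟩
      fin_cases hy
      · show outClass eOut (cls13 0) = cls13 0
        rw [show cls13 0 = base 0 from act4_zero _, h0]
      · show outClass eOut (cls13 3) = cls13 3
        rw [show cls13 3 = base 6 from act4_zero _, h6]
      · show outClass eOut (cls13 4) = cls13 4
        rw [show cls13 4 = base 7 from act4_zero _, h7]
  rw [← Nat.card_congr (Equiv.subtypeEquiv (Equiv.ofBijective _ ⟨cls13_injective, cls13_surjective⟩)
    fun y => (key y).symm), Nat.card_eq_fintype_card, Fintype.card_coe]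
  decide

theorem orbits_transport {X G H : Type*} [Group G] [Group H] (e : G ≃* H) (ρ : G →* Equiv.Perm X) (R : Subgroup G)
    {n : ℕ}
    (h : letI := MulAction.compHom X ((ρ.comp e.symm.toMonoidHom).comp (R.map e.toMonoidHom).subtype)
      Nat.card (MulAction.orbitRel.Quotient ↥(R.map e.toMonoidHom) X) = n) :
    letI := MulAction.compHom X (ρ.comp R.subtype)
    Nat.card (MulAction.orbitRel.Quotient R X) = n := by
  let inst1 := MulAction.compHom X (ρ.comp R.subtype)
  rw [← h]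
  let inst2 := MulAction.compHom X ((ρ.comp e.symm.toMonoidHom).comp (R.map e.toMonoidHom).subtype)
  refine Nat.card_congr (Quotient.congrRight fun x y => ?_)
  constructor
  · rintro ⟨r, hr⟩
    refine ⟨⟨e r.1, r.1, r.2, rfl⟩, ?_⟩
    show ρ (e.symm (e r.1)) y = x
    rw [e.symm_apply_apply]
    exact hr
  · rintro ⟨⟨_, r, hr, rfl⟩, hr'⟩
    refine ⟨⟨r, hr⟩, ?_⟩
    change ρ (e.symm (e r)) y = x at hr'
    rw [e.symm_apply_apply] at hr'
    exact hr'

theorem orbits (R : Subgroup (Out T8)) (hR : Nat.card R = 6) :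
    letI := MulAction.compHom (SubClass T8) (outClass.comp R.subtype)
    Nat.card (MulAction.orbitRel.Quotient R (SubClass T8)) = 7 := by
  classical
  have : Finite (SubClass T8) := Nat.finite_of_card_ne_zero (by rw [card_classes]; decide)
  obtain ⟨eO⟩ := AutPOmega.out_eight_odd (F := K3) 3 (by decide) le_rfl (by decide)
  have h1 : Subsingleton (Multiplicative (ZMod 1)) := Multiplicative.toAdd.subsingleton
  let e0 : Out T8 ≃* P4 := eO.trans MulEquiv.prodUnique
  have hA : Nat.card {x // outClass (clsI Q8 ra) x = x} = 7 := (fix_count 1).trans (by decide)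
  have hB : Nat.card {x // outClass (clsI Q8 rb) x = x} = 7 := (fix_count 2).trans (by decide)
  have hD : Nat.card {x // outClass (clsI Q8 ra * clsI Q8 rb) x = x} = 5 := by
    rw [← map_mul]; exact (fix_count 3).trans (by decide)
  have hne1 : e0 (clsI Q8 ra) ≠ 1 := fun h => by
    rw [e0.map_eq_one_iff.1 h, map_one, Nat.card_congr (Equiv.subtypeUnivEquiv fun x => by simp),
      card_classes] at hA
    omega
  have hne2 : e0 (clsI Q8 ra) * (e0 eOut * e0 (clsI Q8 ra) * (e0 eOut)⁻¹) ≠ 1 := fun h => by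
    rw [← map_inv, ← map_mul, ← map_mul, eOut_conj, ← map_mul, e0.map_eq_one_iff] at h
    rw [h, map_one, Nat.card_congr (Equiv.subtypeUnivEquiv fun x => by simp), card_classes] at hD
    omega
  have hcomm : e0 (clsI Q8 ra) * (e0 eOut * e0 (clsI Q8 ra) * (e0 eOut)⁻¹) =
      e0 eOut * e0 (clsI Q8 ra) * (e0 eOut)⁻¹ * e0 (clsI Q8 ra) := by
    rw [← map_inv, ← map_mul, ← map_mul, eOut_conj, ← map_mul e0, ← map_mul e0, (AutPOmega.clsI_comm ra rb).eq]
  rcases normalise (e0 (clsI Q8 ra)) (e0 eOut)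
      (by rw [← map_mul, AutPOmega.clsI_mul_self nondeg (by decide), map_one])
      (by rw [← map_mul, eOut_sq, map_one]) hcomm hne1 hne2 with ⟨s, hsA, hsB, k, hk, hsE⟩ | ⟨s, hs⟩
  · let e1 : Out T8 ≃* P4 := e0.trans (MulAut.conj s)
    have eA : e1 (clsI Q8 ra) = pA := hsA
    have eB : e1 (clsI Q8 rb) = pB := by
      rw [← eOut_conj, map_mul, map_mul, map_inv]
      show s * e0 eOut * s⁻¹ * (s * e0 (clsI Q8 ra) * s⁻¹) * (s * e0 eOut * s⁻¹)⁻¹ = pB
      rw [← hsB]; group
    have eE : e1 eOut = k * pE := hsE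
    let φ : P4 →* Equiv.Perm (SubClass T8) := outClass.comp e1.symm.toMonoidHom
    have hφ : ∀ o, φ (e1 o) = outClass o := fun o => by
      show outClass (e1.symm (e1 o)) = _
      rw [e1.symm_apply_apply]
    have fA : Nat.card {x // φ pA x = x} = 7 := by rw [← eA, hφ]; exact hA
    have fD : Nat.card {x // φ (pA * pB) x = x} = 5 := by rw [← eA, ← eB, ← map_mul, hφ]; exact hD
    have fDA : ∀ x, φ (pA * pB) x = x → φ pA x = x := fun x hx => by
      rw [← eA, ← eB, ← map_mul, hφ, ← map_mul] at hx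
      rw [← eA, hφ]
      exact fix_subset hx
    have fE : Nat.card {x // φ (pA * pB) x = x ∧ φ pE x = x} = 3 := by
      refine (Nat.card_congr (Equiv.subtypeEquivRight fun x => ?_)).trans eOut_five
      have hAB : φ (pA * pB) x = x ↔ act4 3 x = x := by
        rw [← eA, ← eB, ← map_mul, hφ, ← map_mul]
        rfl
      refine ⟨fun ⟨h1, h2⟩ => ⟨hAB.1 h1, ?_⟩, fun ⟨h1, h2⟩ => ⟨hAB.2 h1, ?_⟩⟩
      · rw [← hφ, eE]
        exact fix_mul φ (fix_K φ fDA h1 k hk) h2
      · have h3 := fix_K φ fDA (hAB.2 h1) k hk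
        rw [← hφ, eE, map_mul, Equiv.Perm.mul_apply] at h2
        exact (φ k).injective (h2.trans h3.symm)
    refine orbits_transport e1 outClass R (orbits_seven φ card_classes fA fD fDA fE _ ?_)
    rw [Subgroup.card_map_of_injective e1.injective, hR]
  · exfalso
    have h := fix_card_conj (outClass.comp e0.symm.toMonoidHom) s (e0 (clsI Q8 ra))
    rw [hs] at h
    simp only [MonoidHom.comp_apply, MulEquiv.coe_toMonoidHom] at h
    rw [← map_inv, ← map_mul, ← map_mul, eOut_conj, ← map_mul, e0.symm_apply_apply, e0.symm_apply_apply,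
      hA, hD] at h
    omega

end Cfsg.Agent.UnipEight
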