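import Cfsg.Agent.Lib.UnipEight.CentralizerA
import Cfsg.Agent.Lib.UnipEight.CentralizerC
import Cfsg.Agent.Lib.UnipEight.Lift

/-!
The eight types of elements of order three, told apart by invariants, and their behaviour under a similarity of
multiplier minus one.
-/

set_option autoImplicit false
set_option linter.unusedSectionVars false
set_option maxHeartbeats 1000000

namespace Cfsg.Agent.UnipEight

open scoped Matrix
open UnipSeven (K3 Frame GA SA GB SB GC SC GD SD det_GA det_GB det_GC det_GD pol nil comb HasValue HasIso HasAlt inv4)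
open QForm (act)
open ClassicalSimple (GO conjIsometry)
open AutPOmega (dGO)

/-- The eight representatives. -/
noncomputable def repEl : Fin 8 → El :=
  ![⟨gA, gA_cube, mk3_ne_one MA_ne⟩, ⟨gA4, gA4_cube, mk3_ne_one MA4_ne⟩, ⟨gB1, gB1_cube, mk3_ne_one MB1_ne⟩,
    ⟨gB2, gB2_cube, mk3_ne_one MB2_ne⟩, ⟨gC1, gC1_cube, mk3_ne_one MC1_ne⟩, ⟨gC2, gC2_cube, mk3_ne_one MC2_ne⟩,
    ⟨gD1, gD1_cube, mk3_ne_one MD1_ne⟩, ⟨gD2, gD2_cube, mk3_ne_one MD2_ne⟩]

theorem rep_zero : (repEl 0).1 = gA := rfl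
theorem rep_one : (repEl 1).1 = gA4 := rfl
theorem rep_two : (repEl 2).1 = gB1 := rfl
theorem rep_three : (repEl 3).1 = gB2 := rfl
theorem rep_four : (repEl 4).1 = gC1 := rfl
theorem rep_five : (repEl 5).1 = gC2 := rfl
theorem rep_six : (repEl 6).1 = gD1 := rfl
theorem rep_seven : (repEl 7).1 = gD2 := rfl

theorem forall_eight {P : Fin 8 → Prop} (h0 : P 0) (h1 : P 1) (h2 : P 2) (h3 : P 3) (h4 : P 4) (h5 : P 5)
    (h6 : P 6) (h7 : P 7) : ∀ l, P l
  | 0 => h0
  | 1 => h1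
  | 2 => h2
  | 3 => h3
  | 4 => h4
  | 5 => h5
  | 6 => h6
  | 7 => h7

/-! ### Recognition by a frame -/

theorem conj_repA {g : O8} {e : Fin 4 → I8 → K3} (h : Frame g GA SA e) : ∃ k, k * g * k⁻¹ = (repEl 0).1 := by
  obtain ⟨k, hk, -⟩ := h.conj nondeg det_GA frameA
  exact ⟨k, hk.trans rep_zero.symm⟩

theorem conj_repA4 {g : O8} {e : Fin 8 → I8 → K3} (h : Frame g GAA SAA e) : ∃ k, k * g * k⁻¹ = (repEl 1).1 := by
  obtain ⟨k, hk, -⟩ := h.conj nondeg det_GAA frameA4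
  exact ⟨k, hk.trans rep_one.symm⟩

theorem conj_repB {g : O8} {e : Fin 3 → I8 → K3} {c : K3} (hc : c ≠ 0) (h : Frame g (GB c) SB e) :
    ∃ k, k * g * k⁻¹ = (repEl (if c = 1 then 2 else 3)).1 := by
  rcases (by decide : ∀ t : K3, t = 0 ∨ t = 1 ∨ t = 2) c with rfl | rfl | rfl
  · exact absurd rfl hc
  · obtain ⟨k, hk, -⟩ := h.conj nondeg (det_GB 1 hc) frameB1
    exact ⟨k, hk.trans (by rw [if_pos rfl, rep_two])⟩
  · obtain ⟨k, hk, -⟩ := h.conj nondeg (det_GB 2 hc) frameB2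
    exact ⟨k, hk.trans (by rw [if_neg (by decide), rep_three])⟩

theorem conj_repC {g : O8} {e : Fin 7 → I8 → K3} {c : K3} (hc : c ≠ 0) (h : Frame g (GC c) SC e) :
    ∃ k, k * g * k⁻¹ = (repEl (if c = 1 then 4 else 5)).1 := by
  rcases (by decide : ∀ t : K3, t = 0 ∨ t = 1 ∨ t = 2) c with rfl | rfl | rfl
  · exact absurd rfl hc
  · obtain ⟨k, hk, -⟩ := h.conj nondeg (det_GC 1 hc) frameC1
    exact ⟨k, hk.trans (by rw [if_pos rfl, rep_four])⟩
  · obtain ⟨k, hk, -⟩ := h.conj nondeg (det_GC 2 hc) frameC2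
    exact ⟨k, hk.trans (by rw [if_neg (by decide), rep_five])⟩

theorem conj_repD {g : O8} {e : Fin 6 → I8 → K3} {c d : K3} (hc : c ≠ 0) (hd : d ≠ 0)
    (h : Frame g (GD c d) SD e) : ∃ k, k * g * k⁻¹ = (repEl (if c = d then 6 else 7)).1 := by
  have d11 : ∀ e, Frame g (GD 1 1) SD e → ∃ k, k * g * k⁻¹ = (repEl 6).1 := fun e h => by
    obtain ⟨k, hk, -⟩ := h.conj nondeg (det_GD 1 1 one_ne_zero one_ne_zero) frameD1
    exact ⟨k, hk.trans rep_six.symm⟩
  have d12 : ∀ e, Frame g (GD 1 2) SD e → ∃ k, k * g * k⁻¹ = (repEl 7).1 := fun e h => by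
    obtain ⟨k, hk, -⟩ := h.conj nondeg (det_GD 1 2 one_ne_zero (by decide)) frameD2
    exact ⟨k, hk.trans rep_seven.symm⟩
  rcases (by decide : ∀ t : K3, t = 0 ∨ t = 1 ∨ t = 2) c with rfl | rfl | rfl <;>
    rcases (by decide : ∀ t : K3, t = 0 ∨ t = 1 ∨ t = 2) d with rfl | rfl | rfl
  · exact absurd rfl hc
  · exact absurd rfl hc
  · exact absurd rfl hc
  · exact absurd rfl hd
  · rw [if_pos rfl]; exact d11 e h
  · rw [if_neg (by decide)]; exact d12 e h
  · exact absurd rfl hd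
  · rw [if_neg (by decide)]
    exact d12 _ (h.change UnipSeven.swapT UnipSeven.swapT _ UnipSeven.swapT_facts.1 UnipSeven.swapT_facts.2.1
      UnipSeven.swapT_facts.2.2)
  · rw [if_pos rfl]
    exact d11 _ (h.change UnipSeven.mixT (-UnipSeven.mixT) _ UnipSeven.mixT_facts.1 UnipSeven.mixT_facts.2.1
      UnipSeven.mixT_facts.2.2)

theorem exhaust (g : El) : ∃ t : Fin 8, ∃ k : O8, k * g.1 * k⁻¹ = (repEl t).1 := by
  rcases exists_frame_eight g.2.1 nondeg card_I8 g.2.2 with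
    ⟨e, h⟩ | ⟨e, h⟩ | ⟨c, hc, e, h⟩ | ⟨c, hc, e, h⟩ | ⟨c, d, hc, hd, e, h⟩
  · exact ⟨_, conj_repA h⟩
  · exact ⟨_, conj_repA4 h⟩
  · exact ⟨_, conj_repB hc h⟩
  · exact ⟨_, conj_repC hc h⟩
  · exact ⟨_, conj_repD hc hd h⟩

/-! ### Invariants -/

/-- A non-singular fixed vector. -/
def HasAniso (g : O8) : Prop := ∃ x, act Q8 g x = x ∧ Q8 x ≠ 0

theorem hasAniso_conj (k g : O8) : HasAniso (k * g * k⁻¹) ↔ HasAniso g := by
  have key : ∀ k g : O8, HasAniso g → HasAniso (k * g * k⁻¹) := by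
    rintro k g ⟨x, hx, hx'⟩
    exact ⟨act Q8 k x, by rw [QForm.act_mul, QForm.act_mul, QForm.act_inv_act, hx], by rwa [QForm.act_map]⟩
  refine ⟨fun h => ?_, key k g⟩
  have := key k⁻¹ _ h
  rwa [show k⁻¹ * (k * g * k⁻¹) * k⁻¹⁻¹ = g by group] at this

theorem hasAniso_inv (g : O8) : HasAniso g⁻¹ ↔ HasAniso g := by
  have key : ∀ g : O8, HasAniso g → HasAniso g⁻¹ := by
    rintro g ⟨x, hx, hx'⟩
    refine ⟨x, ?_, hx'⟩
    conv_lhs => rw [← hx]
    rw [QForm.act_inv_act]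
  exact ⟨fun h => inv_inv g ▸ key _ h, key g⟩

theorem aniso_A : HasAniso gA :=
  ⟨vec ![0, 1, 0, 0, 0, 1, 0, 0], by show MA *ᵥ _ = _; decide +kernel,
    q_ne (c := 1) (by decide +kernel) one_ne_zero⟩

theorem not_aniso_A4 : ¬ HasAniso gA4 := by
  rintro ⟨x, hx, hx'⟩
  change MA4 *ᵥ x = x at hx
  rw [MA4_blocks, Matrix.fromBlocks_mulVec, Matrix.one_mulVec, Matrix.one_mulVec] at hx
  have h1 : JA *ᵥ (x ∘ Sum.inr) = 0 := funext fun i => by
    have := congrFun hx (Sum.inl i)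
    simpa using this
  have h2 := (by decide +kernel : ∀ y : Fin 4 → K3, JA *ᵥ y = 0 → y = 0) _ h1
  refine hx' ?_
  rw [QForm.plusForm_apply, quadFormPlus]
  exact Finset.sum_eq_zero fun i _ => by rw [show x (Sum.inr i) = 0 from congrFun h2 i, mul_zero]

theorem no_value_A4 : ¬ HasValue gA4 1 ∧ ¬ HasValue gA4 2 := by
  have hsq : (SAA - 1) * (SAA - 1) = 0 := by decide +kernel
  constructor <;>
  · rw [frameA4.hasValue_iff det_GAA]
    rintro ⟨a, ha⟩
    rw [UnipSeven.mulVec2_apply, hsq, Matrix.mul_zero, Matrix.zero_mulVec, dotProduct_zero] at ha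
    revert ha
    decide

theorem separated_key : ∀ i j : Fin 8,
    (i ∈ ({2, 4, 6, 7} : Finset (Fin 8)) ↔ j ∈ ({2, 4, 6, 7} : Finset (Fin 8))) →
    (i ∈ ({3, 5, 6, 7} : Finset (Fin 8)) ↔ j ∈ ({3, 5, 6, 7} : Finset (Fin 8))) →
    (i ∈ ({6, 7} : Finset (Fin 8)) → j ∈ ({6, 7} : Finset (Fin 8)) → (i = 7 ↔ j = 7)) →
    (i ∈ ({2, 3, 4, 5} : Finset (Fin 8)) → j ∈ ({2, 3, 4, 5} : Finset (Fin 8)) →
      (i ∈ ({4, 5} : Finset (Fin 8)) ↔ j ∈ ({4, 5} : Finset (Fin 8)))) →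
    (i ∈ ({0, 1} : Finset (Fin 8)) → j ∈ ({0, 1} : Finset (Fin 8)) → (i = 0 ↔ j = 0)) → i = j := by
  intro i j
  fin_cases i <;> fin_cases j <;> decide

theorem separated {i j : Fin 8} {k : O8}
    (h : k * (repEl i).1 * k⁻¹ = (repEl j).1 ∨ k * (repEl i).1 * k⁻¹ = (repEl j).1⁻¹) : i = j := by
  have hinv : inv4 (repEl i).1 = inv4 (repEl j).1 := by
    rcases h with h | h
    · rw [← UnipSeven.inv4_conj k, h]
    · rw [← UnipSeven.inv4_conj k, h, UnipSeven.inv4_inv (repEl j).2.1]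
  have hani : HasAniso (repEl i).1 ↔ HasAniso (repEl j).1 := by
    rcases h with h | h
    · rw [← hasAniso_conj k, h]
    · rw [← hasAniso_conj k, h, hasAniso_inv]
  simp only [inv4, Prod.mk.injEq] at hinv
  obtain ⟨q1, q2, q3, q4⟩ := hinv
  obtain ⟨a1, a2⟩ := UnipSeven.frameA_inv frameA
  obtain ⟨a1', a2'⟩ := no_value_A4
  obtain ⟨b1, b2', b3⟩ := UnipSeven.frameB_inv one_ne_zero frameB1
  obtain ⟨c1, c2', c3⟩ := UnipSeven.frameB_inv (by decide : (2 : K3) ≠ 0) frameB2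
  obtain ⟨u1, u2', u3⟩ := UnipSeven.frameC_inv one_ne_zero frameC1
  obtain ⟨v1, v2', v3⟩ := UnipSeven.frameC_inv (by decide : (2 : K3) ≠ 0) frameC2
  obtain ⟨p1, p2, p3⟩ := UnipSeven.frameD_inv one_ne_zero one_ne_zero frameD1
  obtain ⟨r1, r2, r3⟩ := UnipSeven.frameD_inv one_ne_zero (by decide : (2 : K3) ≠ 0) frameD2
  have b2 := b2' 2 (by decide) (by decide)
  have c2 := c2' 1 one_ne_zero (by decide)
  have u2 := u2' 2 (by decide) (by decide)
  have v2 := v2' 1 one_ne_zero (by decide)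
  have p3' : ¬ HasIso gD1 := fun h => p3.1 h rfl
  have r3' : HasIso gD2 := r3.2 (by decide)
  have t1 : ∀ l : Fin 8, HasValue (repEl l).1 1 ↔ l ∈ ({2, 4, 6, 7} : Finset (Fin 8)) := by
    refine forall_eight ?_ ?_ ?_ ?_ ?_ ?_ ?_ ?_
    · rw [rep_zero]; exact iff_of_false a1 (by decide)
    · rw [rep_one]; exact iff_of_false a1' (by decide)
    · rw [rep_two]; exact iff_of_true b1 (by decide)
    · rw [rep_three]; exact iff_of_false c2 (by decide)
    · rw [rep_four]; exact iff_of_true u1 (by decide)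
    · rw [rep_five]; exact iff_of_false v2 (by decide)
    · rw [rep_six]; exact iff_of_true p1 (by decide)
    · rw [rep_seven]; exact iff_of_true r1 (by decide)
  have t2 : ∀ l : Fin 8, HasValue (repEl l).1 2 ↔ l ∈ ({3, 5, 6, 7} : Finset (Fin 8)) := by
    refine forall_eight ?_ ?_ ?_ ?_ ?_ ?_ ?_ ?_
    · rw [rep_zero]; exact iff_of_false a2 (by decide)
    · rw [rep_one]; exact iff_of_false a2' (by decide)
    · rw [rep_two]; exact iff_of_false b2 (by decide)
    · rw [rep_three]; exact iff_of_true c1 (by decide)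
    · rw [rep_four]; exact iff_of_false u2 (by decide)
    · rw [rep_five]; exact iff_of_true v1 (by decide)
    · rw [rep_six]; exact iff_of_true p2 (by decide)
    · rw [rep_seven]; exact iff_of_true r2 (by decide)
  have t3 : i ∈ ({6, 7} : Finset (Fin 8)) → j ∈ ({6, 7} : Finset (Fin 8)) → (i = 7 ↔ j = 7) := by
    have t : ∀ l : Fin 8, l ∈ ({6, 7} : Finset (Fin 8)) → (HasIso (repEl l).1 ↔ l = 7) := by
      refine forall_eight ?_ ?_ ?_ ?_ ?_ ?_ ?_ ?_ <;> intro hl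
      all_goals first
        | exact absurd hl (by decide)
        | (rw [rep_six]; exact iff_of_false p3' (by decide))
        | (rw [rep_seven]; exact iff_of_true r3' rfl)
    intro hi hj
    rw [← t i hi, ← t j hj, q3]
  have t4 : i ∈ ({2, 3, 4, 5} : Finset (Fin 8)) → j ∈ ({2, 3, 4, 5} : Finset (Fin 8)) →
      (i ∈ ({4, 5} : Finset (Fin 8)) ↔ j ∈ ({4, 5} : Finset (Fin 8))) := by
    have t : ∀ l : Fin 8, l ∈ ({2, 3, 4, 5} : Finset (Fin 8)) →
        (HasAlt (repEl l).1 ↔ l ∈ ({4, 5} : Finset (Fin 8))) := by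
      refine forall_eight ?_ ?_ ?_ ?_ ?_ ?_ ?_ ?_ <;> intro hl
      all_goals first
        | exact absurd hl (by decide)
        | (rw [rep_two]; exact iff_of_false b3 (by decide))
        | (rw [rep_three]; exact iff_of_false c3 (by decide))
        | (rw [rep_four]; exact iff_of_true u3 (by decide))
        | (rw [rep_five]; exact iff_of_true v3 (by decide))
    intro hi hj
    rw [← t i hi, ← t j hj, q4]
  have t5 : i ∈ ({0, 1} : Finset (Fin 8)) → j ∈ ({0, 1} : Finset (Fin 8)) → (i = 0 ↔ j = 0) := by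
    have t : ∀ l : Fin 8, l ∈ ({0, 1} : Finset (Fin 8)) → (HasAniso (repEl l).1 ↔ l = 0) := by
      refine forall_eight ?_ ?_ ?_ ?_ ?_ ?_ ?_ ?_ <;> intro hl
      all_goals first
        | exact absurd hl (by decide)
        | (rw [rep_zero]; exact iff_of_true aniso_A rfl)
        | (rw [rep_one]; exact iff_of_false not_aniso_A4 (by decide))
    intro hi hj
    rw [← t i hi, ← t j hj, hani]
  exact separated_key i j (by rw [← t1 i, ← t1 j, q1]) (by rw [← t2 i, ← t2 j, q2]) t3 t4 t5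

/-! ### A similarity of multiplier minus one -/

/-- The similarity negating the first four coordinates. -/
noncomputable def simD : GO Q8 := dGO (-1)

theorem simD_mult (x : I8 → K3) : Q8 ((simD.1 : Matrix I8 I8 K3) *ᵥ x) = -Q8 x := by
  rw [simD, AutPOmega.dGO_mulVec, QForm.plusForm_apply, QForm.plusForm_apply, quadFormPlus, quadFormPlus,
    ← Finset.sum_neg_distrib]
  exact Finset.sum_congr rfl fun i _ => by simp

theorem pol_simD (x y : I8 → K3) :
    pol Q8 ((simD.1 : Matrix I8 I8 K3) *ᵥ x) ((simD.1 : Matrix I8 I8 K3) *ᵥ y) = -pol Q8 x y := by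
  simp only [pol, QuadraticMap.polar, ← Matrix.mulVec_add, simD_mult]
  ring

theorem act_simD (g : O8) (x : I8 → K3) :
    act Q8 (conjIsometry Q8 simD g) ((simD.1 : Matrix I8 I8 K3) *ᵥ x) = (simD.1 : Matrix I8 I8 K3) *ᵥ act Q8 g x := by
  show ((simD.1 * g.1 * simD.1⁻¹ : GL I8 K3) : Matrix I8 I8 K3) *ᵥ _ = _
  rw [Matrix.mulVec_mulVec, ← Units.val_mul, inv_mul_cancel_right, Units.val_mul, ← Matrix.mulVec_mulVec]

theorem frame_simD {κ : Type} [Fintype κ] [DecidableEq κ] {g : O8} {G S : Matrix κ κ K3} {e : κ → I8 → K3}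
    (h : Frame g G S e) :
    Frame (conjIsometry Q8 simD g) (-G) S fun i => (simD.1 : Matrix I8 I8 K3) *ᵥ e i := by
  refine ⟨fun i j => ?_, fun j => ?_, fun x hx => ?_⟩
  · rw [pol_simD, h.gram, Matrix.neg_apply]
  · rw [act_simD, h.move, Matrix.mulVec_sum]
    exact Finset.sum_congr rfl fun i _ => Matrix.mulVec_smul _ _ _
  · have hx' : x = (simD.1 : Matrix I8 I8 K3) *ᵥ (((simD.1)⁻¹ : GL I8 K3) : Matrix I8 I8 K3) *ᵥ x := by
      rw [ClassicalSimple.mulVec_inv_cancel]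
    set y := (((simD.1)⁻¹ : GL I8 K3) : Matrix I8 I8 K3) *ᵥ x
    rw [hx', act_simD, h.rest y fun i => ?_]
    have := hx i
    rw [hx', pol_simD, neg_eq_zero] at this
    exact this

/-- The change of sign in a pair. -/
def flipA : Matrix (Fin 4) (Fin 4) K3 := Matrix.diagonal ![1, -1, 1, -1]

theorem flipA_facts : flipA * flipA = 1 ∧ flipAᵀ * (-GA) * flipA = GA ∧ SA * flipA = flipA * SA := by
  decide +kernel

theorem neg_shapes : ∀ c d : K3, -GB c = GB (-c) ∧ -GD c d = GD (-c) (-d) := by decide +kernel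

/-- The image of the fixed types under the similarity. -/
theorem simD_type :
    (∃ k, k * (simEl simD (repEl 0)).1 * k⁻¹ = (repEl 0).1) ∧
    (∃ k, k * (simEl simD (repEl 2)).1 * k⁻¹ = (repEl 3).1) ∧
    (∃ k, k * (simEl simD (repEl 3)).1 * k⁻¹ = (repEl 2).1) ∧
    (∃ k, k * (simEl simD (repEl 6)).1 * k⁻¹ = (repEl 6).1) ∧
    ∃ k, k * (simEl simD (repEl 7)).1 * k⁻¹ = (repEl 7).1 := by
  refine ⟨?_, ?_, ?_, ?_, ?_⟩
  · exact conj_repA ((frame_simD frameA).change flipA flipA _ flipA_facts.1 flipA_facts.2.1 flipA_facts.2.2)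
  · have h := frame_simD frameB1
    rw [(neg_shapes 1 1).1] at h
    have := conj_repB (by decide) h
    rwa [if_neg (by decide)] at this
  · have h := frame_simD frameB2
    rw [(neg_shapes 2 2).1] at h
    have := conj_repB (by decide) h
    rwa [if_pos (by decide)] at this
  · have h := frame_simD frameD1
    rw [(neg_shapes 1 1).2] at h
    have := conj_repD (by decide) (by decide) h
    rwa [if_pos rfl] at this
  · have h := frame_simD frameD2
    rw [(neg_shapes 1 2).2] at h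
    have := conj_repD (by decide) (by decide) h
    rwa [if_neg (by decide)] at this

end Cfsg.Agent.UnipEight
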